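import Mathlib
import Cfsg.Agent.Lib.Grp.Cores
import Cfsg.Agent.Lib.Grp.Solvable
import Cfsg.Agent.Lib.Grp.Frattini

/-!
Counting elements of odd order, and Sylow subgroups through a given element.
-/

set_option autoImplicit false

open scoped Pointwise

universe u v

namespace Cfsg.Agent.Transfer.FiveOrbits

open Subgroup

/-- The number of elements of odd order. -/
noncomputable def nOdd (A : Type*) [Monoid A] : ℕ := Nat.card {a : A // Odd (orderOf a)}

/-- A surjection with kernel of odd order multiplies the number of elements of odd order by the kernel. -/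
theorem nOdd_of_surjective {A : Type u} {B : Type v} [Group A] [Finite A] [Group B] (f : A →* B)
    (hf : Function.Surjective f) (ho : Odd (Nat.card f.ker)) : nOdd A = Nat.card f.ker * nOdd B := by
  have key : ∀ a : A, Odd (orderOf a) ↔ Odd (orderOf (f a)) := by
    intro a
    refine ⟨fun h => h.of_dvd_nat (orderOf_map_dvd f a), fun h => ?_⟩
    have h1 : a ^ orderOf (f a) ∈ f.ker := by
      rw [MonoidHom.mem_ker, map_pow, pow_orderOf_eq_one]
    have h2 : orderOf a ∣ orderOf (f a) * Nat.card f.ker := by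
      refine orderOf_dvd_of_pow_eq_one ?_
      rw [pow_mul]
      exact congrArg Subtype.val (pow_card_eq_one' (x := (⟨_, h1⟩ : f.ker)))
    exact (h.mul ho).of_dvd_nat h2
  let e : {a : A // Odd (orderOf a)} ≃ f.ker × {b : B // Odd (orderOf b)} :=
    ((Equiv.sigmaSubtypeFiberEquivSubtype f key).symm.trans
      (Equiv.sigmaEquivProdOfEquiv fun b => MonoidHom.fiberEquivKerOfSurjective hf b.1)).trans (Equiv.prodComm _ _)
  rw [nOdd, nOdd, Nat.card_congr e, Nat.card_prod]

/-- A finite solvable group with abelian Sylow 2-subgroups has, modulo its odd core, a normal Sylow 2-subgroup. -/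
theorem sylow_two_normal_mod_core {A : Type u} [Group A] [Finite A] [Group.IsSolvable A] (S : Sylow 2 A)
    (hS : IsMulCommutative S) [(Cfsg.pPrimeCore 2 A).Normal] :
    ((S : Subgroup A).map (QuotientGroup.mk' (Cfsg.pPrimeCore 2 A))).Normal := by
  haveI := Fact.mk Nat.prime_two
  set π := QuotientGroup.mk' (Cfsg.pPrimeCore 2 A) with hπ
  let S' : Sylow 2 (A ⧸ Cfsg.pPrimeCore 2 A) := S.mapSurjective (QuotientGroup.mk'_surjective _)
  have hS'eq : (S' : Subgroup (A ⧸ Cfsg.pPrimeCore 2 A)) = (S : Subgroup A).map π :=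
    Sylow.coe_mapSurjective _ _
  haveI : Group.IsSolvable (A ⧸ Cfsg.pPrimeCore 2 A) :=
    solvable_of_surjective (QuotientGroup.mk'_surjective _)
  have hle : Cfsg.pCore 2 (A ⧸ Cfsg.pPrimeCore 2 A) ≤ S' := Grp.pCore_le_sylow S'
  have hc : (S' : Subgroup (A ⧸ Cfsg.pPrimeCore 2 A)) ≤
      centralizer (Cfsg.pCore 2 (A ⧸ Cfsg.pPrimeCore 2 A) : Set (A ⧸ Cfsg.pPrimeCore 2 A)) := by
    intro x hx
    refine mem_centralizer_iff.2 fun y hy => ?_
    have hy' := hle hy
    rw [hS'eq] at hx hy'
    obtain ⟨a, ha, rfl⟩ := hx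
    obtain ⟨b, hb, rfl⟩ := hy'
    rw [← map_mul, ← map_mul]
    exact congrArg π (congrArg Subtype.val (hS.is_comm.comm (⟨b, hb⟩ : (S : Subgroup A)) ⟨a, ha⟩))
  have he : (S' : Subgroup (A ⧸ Cfsg.pPrimeCore 2 A)) = Cfsg.pCore 2 (A ⧸ Cfsg.pPrimeCore 2 A) :=
    le_antisymm (hc.trans (Grp.centralizer_pCore_le Grp.pPrimeCore_quotient_eq_bot)) hle
  rw [← hS'eq, he]
  exact Grp.pCore_isNormal

/-- In a finite solvable group with abelian Sylow 2-subgroup `S`, the proportion of elements of odd order is
the same as in the normaliser of `S`. -/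
theorem nOdd_normalizer {A : Type u} [Group A] [Finite A] [Group.IsSolvable A] (S : Sylow 2 A)
    (hS : IsMulCommutative S) :
    nOdd A * Nat.card (normalizer ((S : Subgroup A) : Set A)) =
      Nat.card A * nOdd (normalizer ((S : Subgroup A) : Set A)) := by
  classical
  haveI := Fact.mk Nat.prime_two
  haveI hOn : (Cfsg.pPrimeCore 2 A).Normal := Grp.pPrimeCore_isNormal
  set O := Cfsg.pPrimeCore 2 A with hO
  have hOodd : Odd (Nat.card O) :=
    Nat.not_even_iff_odd.1 fun he => Grp.pPrimeCore_not_dvd (p := 2) (G := A) he.two_dvd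
  set π := QuotientGroup.mk' O with hπ
  haveI : ((S : Subgroup A).map π).Normal := sylow_two_normal_mod_core S hS
  set M := ((S : Subgroup A).map π).comap π with hM
  have hSM : (S : Subgroup A) ≤ M := le_comap_map _ _
  haveI : M.Normal := inferInstance
  have htop := Sylow.normalizer_sup_eq_top' (N := M) S hSM
  set N := normalizer ((S : Subgroup A) : Set A) with hN
  have hsurj : Function.Surjective (π.comp N.subtype) := by
    intro y
    obtain ⟨a, rfl⟩ := QuotientGroup.mk'_surjective O y
    have ha : a ∈ N ⊔ M := htop ▸ mem_top a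
    rw [← SetLike.mem_coe, Subgroup.mul_normal] at ha
    obtain ⟨n, hn, m, hm, rfl⟩ := ha
    obtain ⟨s, hs, hsm⟩ := hm
    refine ⟨⟨n * s, mul_mem hn (le_normalizer hs)⟩, ?_⟩
    show π (n * s) = π (n * m)
    rw [map_mul, map_mul, hsm]
  have h1 : nOdd A = Nat.card π.ker * nOdd (A ⧸ O) :=
    nOdd_of_surjective π (QuotientGroup.mk'_surjective O) (by rw [hπ, QuotientGroup.ker_mk']; exact hOodd)
  have hkodd : Odd (Nat.card (π.comp N.subtype).ker) := by
    refine hOodd.of_dvd_nat (Dvd.dvd.trans ?_ (dvd_refl _))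
    refine Subgroup.card_dvd_of_injective ((N.subtype.comp (π.comp N.subtype).ker.subtype).codRestrict O
      fun k => ?_) fun a b e => Subtype.ext (Subtype.ext (congrArg (fun z : O => (z : A)) e))
    have := MonoidHom.mem_ker.1 k.2
    simpa [hπ] using this
  have h2 := nOdd_of_surjective (π.comp N.subtype) hsurj hkodd
  have c1 : Nat.card A = Nat.card π.ker * Nat.card (A ⧸ O) := by
    rw [hπ, QuotientGroup.ker_mk', mul_comm, ← Subgroup.card_eq_card_quotient_mul_card_subgroup]
  have c2 : Nat.card N = Nat.card (π.comp N.subtype).ker * Nat.card (A ⧸ O) := by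
    rw [Subgroup.card_eq_card_quotient_mul_card_subgroup (π.comp N.subtype).ker, mul_comm,
      Nat.card_congr (QuotientGroup.quotientKerEquivOfSurjective _ hsurj).toEquiv]
  rw [h1, h2, c1, c2]
  ring

end Cfsg.Agent.Transfer.FiveOrbits
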