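import Mathlib
import Cfsg.Agent.Lib.Transfer.FiveOrbits.Count
import Cfsg.Agent.Lib.Invol.Sylow
import Cfsg.Agent.S0144
import Cfsg.Agent.S0204

/-!
A simple group whose element orders are `1, 2, p, q, 2p`, all elements of the same order being conjugate
under automorphisms: basic counting.
-/

set_option autoImplicit false
set_option linter.style.haveILetI false

open scoped Pointwise

universe u

namespace Cfsg.Agent.Transfer.FiveOrbits

open Subgroup

/-- A non-abelian simple group with element orders `1, 2, p, q, 2p` (all occurring), all elements of the same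
order being in one orbit of the automorphism group. -/
structure Hyp (G : Type u) [Group G] [Finite G] (p q : ℕ) : Prop where
  simple : IsSimpleGroup G
  nab : ¬ IsMulCommutative G
  hp : p.Prime
  hp2 : p ≠ 2
  hq : q.Prime
  hq2 : q ≠ 2
  hpq : p ≠ q
  ord : ∀ g : G, orderOf g = 1 ∨ orderOf g = 2 ∨ orderOf g = p ∨ orderOf g = q ∨ orderOf g = 2 * p
  ex2p : ∃ g : G, orderOf g = 2 * p
  exq : ∃ g : G, orderOf g = q
  orb : ∀ x y : G, orderOf x = orderOf y → ∃ α : MulAut G, α x = y

variable {G : Type u} [Group G] [Finite G] {p q : ℕ}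

/-- The number of elements of a given order. -/
noncomputable def cnt (G : Type u) [Group G] (n : ℕ) : ℕ := Nat.card {g : G // orderOf g = n}

theorem cen_comm {x t : G} (h : x ∈ centralizer ({t} : Set G)) : Commute x t :=
  mem_centralizer_singleton_iff.1 h

theorem mem_cen_of_comm {x t : G} (h : Commute x t) : x ∈ centralizer ({t} : Set G) :=
  mem_centralizer_singleton_iff.2 h.eq

/-- An automorphism maps centralisers to centralisers. -/
noncomputable def cenEquiv (α : MulAut G) {x y : G} (h : α x = y) :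
    (centralizer ({x} : Set G)) ≃* (centralizer ({y} : Set G)) :=
  (α.subgroupMap (centralizer ({x} : Set G))).trans (MulEquiv.subgroupCongr (by
    ext z
    rw [Subgroup.map_equiv_eq_comap_symm, mem_comap, mem_centralizer_singleton_iff,
      mem_centralizer_singleton_iff]
    constructor
    · intro e
      have := congrArg α e
      simpa [h] using this
    · intro e
      apply α.injective
      simpa [h] using e))

theorem cenEquiv_coe (α : MulAut G) {x y : G} (h : α x = y) (z : centralizer ({x} : Set G)) :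
    (cenEquiv α h z : G) = α z := rfl

theorem Hyp.p_ge (h : Hyp G p q) : 3 ≤ p := by
  have := h.hp.two_le; have := h.hp2; omega

theorem Hyp.q_ge (h : Hyp G p q) : 3 ≤ q := by
  have := h.hq.two_le; have := h.hq2; omega

theorem Hyp.p_odd (h : Hyp G p q) : Odd p := h.hp.odd_of_ne_two h.hp2

theorem Hyp.q_odd (h : Hyp G p q) : Odd q := h.hq.odd_of_ne_two h.hq2

theorem Hyp.ord_dvd (h : Hyp G p q) (g : G) : orderOf g ∣ 2 * p ∨ orderOf g = q := by
  rcases h.ord g with e | e | e | e | e <;> rw [e]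
  · exact Or.inl (one_dvd _)
  · exact Or.inl (dvd_mul_right _ _)
  · exact Or.inl (dvd_mul_left _ _)
  · exact Or.inr rfl
  · exact Or.inl dvd_rfl

theorem Hyp.ord_odd (h : Hyp G p q) {g : G} (ho : Odd (orderOf g)) :
    orderOf g = 1 ∨ orderOf g = p ∨ orderOf g = q := by
  rcases h.ord g with e | e | e | e | e
  · exact Or.inl e
  · rw [e] at ho; exact absurd ho (by decide)
  · exact Or.inr (Or.inl e)
  · exact Or.inr (Or.inr e)
  · rw [e] at ho; exact absurd ho (Nat.not_odd_iff_even.2 (even_two_mul p))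

/-- Nothing of order `q` commutes with an element of order `2` or `p`. -/
theorem Hyp.not_comm (h : Hyp G p q) {x z : G} (hx : orderOf x = 2 ∨ orderOf x = p) (hz : orderOf z = q) :
    ¬ Commute x z := by
  intro hc
  have hco : (orderOf x).Coprime (orderOf z) := by
    rw [hz]
    rcases hx with e | e <;> rw [e]
    · exact (Nat.coprime_primes Nat.prime_two h.hq).2 h.hq2.symm
    · exact (Nat.coprime_primes h.hp h.hq).2 h.hpq
  have he := hc.orderOf_mul_eq_mul_orderOf_of_coprime hco
  rw [hz] at he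
  have hdvd : q ∣ orderOf (x * z) := ⟨orderOf x, he.trans (mul_comm _ _)⟩
  rcases h.ord_dvd (x * z) with hd | hd
  · rcases h.hq.dvd_mul.1 (hdvd.trans hd) with e | e
    · exact h.hq2 ((Nat.prime_dvd_prime_iff_eq h.hq Nat.prime_two).1 e)
    · exact h.hpq ((Nat.prime_dvd_prime_iff_eq h.hq h.hp).1 e).symm
  · rw [hd] at he
    have h1 : orderOf x = 1 := Nat.eq_of_mul_eq_mul_right h.hq.pos (by rw [one_mul]; exact he.symm)
    rcases hx with e | e <;> rw [e] at h1
    · omega
    · exact h.hp.ne_one h1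

/-- An element commuting with an involution has order dividing `2 p`. -/
theorem Hyp.ord_of_comm (h : Hyp G p q) {t x : G} (ht : orderOf t = 2) (hc : Commute x t) :
    orderOf x ∣ 2 * p :=
  (h.ord_dvd x).resolve_right fun e => h.not_comm (Or.inl ht) e hc.symm

theorem Hyp.ord_odd_comm (h : Hyp G p q) {t x : G} (ht : orderOf t = 2) (hc : Commute x t)
    (ho : Odd (orderOf x)) : orderOf x = 1 ∨ orderOf x = p := by
  rcases h.ord_odd ho with e | e | e
  · exact Or.inl e
  · exact Or.inr e
  · exact absurd hc.symm (h.not_comm (Or.inl ht) e)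

theorem Hyp.notCyclic (h : Hyp G p q) : ¬ IsCyclic G := fun hc => h.nab
  ⟨⟨fun a b => by
    obtain ⟨g, hg⟩ := hc.exists_generator
    obtain ⟨i, rfl⟩ := hg a
    obtain ⟨j, rfl⟩ := hg b
    exact (Commute.refl g).zpow_zpow i j⟩⟩

theorem Hyp.center_eq_bot (h : Hyp G p q) : center G = ⊥ := by
  haveI := h.simple
  rcases IsSimpleGroup.eq_bot_or_eq_top_of_normal (center G) inferInstance with e | e
  · exact e
  · exact absurd ⟨⟨fun a b => (mem_center_iff.1 (e ▸ mem_top b) a)⟩⟩ h.nab

theorem Hyp.normal_eq (h : Hyp G p q) (N : Subgroup G) [N.Normal] : N = ⊥ ∨ N = ⊤ :=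
  haveI := h.simple
  IsSimpleGroup.eq_bot_or_eq_top_of_normal N inferInstance

theorem Hyp.not_top (h : Hyp G p q) {s : ℕ} [Fact s.Prime] {P : Subgroup G} (hP : IsPGroup s P) : P ≠ ⊤ := by
  intro e
  subst e
  haveI := h.simple
  have hG : IsPGroup s G := fun g => by
    obtain ⟨k, hk⟩ := hP ⟨g, mem_top g⟩
    exact ⟨k, congrArg Subtype.val hk⟩
  haveI : Nontrivial G := IsSimpleGroup.toNontrivial
  have := hG.center_nontrivial
  rw [h.center_eq_bot] at this
  exact false_of_nontrivial_of_subsingleton (⊥ : Subgroup G)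

/-! ### The Sylow 2-subgroups -/

theorem Hyp.sq_eq_one (h : Hyp G p q) (S : Sylow 2 G) {s : G} (hs : s ∈ (S : Subgroup G)) : s * s = 1 := by
  haveI := Fact.mk Nat.prime_two
  obtain ⟨k, hk⟩ := IsPGroup.iff_orderOf.1 S.isPGroup' ⟨s, hs⟩
  rw [orderOf_mk] at hk
  have hd : orderOf s ∣ 2 := by
    rcases h.ord_dvd s with hd | hd
    · refine (Nat.Coprime.dvd_mul_right ?_).1 hd
      rw [hk]
      exact Nat.Coprime.pow_left k ((Nat.coprime_primes Nat.prime_two h.hp).2 h.hp2.symm)
    · exfalso
      have h1 : q ∣ 2 ^ k := by rw [← hk, hd]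
      exact h.hq2 ((Nat.prime_dvd_prime_iff_eq h.hq Nat.prime_two).1 (h.hq.dvd_of_dvd_pow h1))
  rw [← pow_two]
  exact orderOf_dvd_iff_pow_eq_one.1 hd

theorem Hyp.comm_mem (h : Hyp G p q) (S : Sylow 2 G) {a b : G} (ha : a ∈ (S : Subgroup G))
    (hb : b ∈ (S : Subgroup G)) : a * b = b * a := by
  have h1 := h.sq_eq_one S (mul_mem ha hb)
  have h2 : a * b = (a * b)⁻¹ := eq_inv_of_mul_eq_one_left h1
  rwa [mul_inv_rev, inv_eq_of_mul_eq_one_right (h.sq_eq_one S ha),
    inv_eq_of_mul_eq_one_right (h.sq_eq_one S hb)] at h2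

theorem Hyp.sylow_comm (h : Hyp G p q) (S : Sylow 2 G) : IsMulCommutative (S : Subgroup G) :=
  ⟨⟨fun a b => Subtype.ext (h.comm_mem S a.2 b.2)⟩⟩

theorem Hyp.sylow_le_cen (h : Hyp G p q) (S : Sylow 2 G) {t : G} (ht : t ∈ (S : Subgroup G)) :
    (S : Subgroup G) ≤ centralizer ({t} : Set G) :=
  fun _ hs => mem_centralizer_singleton_iff.2 (h.comm_mem S hs ht)

theorem Hyp.orderOf_mem (h : Hyp G p q) (S : Sylow 2 G) {s : G} (hs : s ∈ (S : Subgroup G)) (h1 : s ≠ 1) :
    orderOf s = 2 :=
  orderOf_eq_prime (by rw [pow_two]; exact h.sq_eq_one S hs) h1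

theorem Hyp.four_le (h : Hyp G p q) (S : Sylow 2 G) : 4 ≤ Nat.card (S : Subgroup G) := by
  haveI := h.simple
  haveI := Fact.mk Nat.prime_two
  obtain ⟨E, hE⟩ := S0204.result h.notCyclic
  have hc : Nat.card E = 2 ^ 2 := hE.card_four
  obtain ⟨S', hS'⟩ := (IsPGroup.of_card hc).exists_le_sylow
  have h1 : Nat.card E ≤ Nat.card (S' : Subgroup G) := Nat.card_le_card_of_injective _
    (Subgroup.inclusion_injective hS')
  rw [hc] at h1
  rw [show Nat.card (S : Subgroup G) = Nat.card (S' : Subgroup G) from Nat.card_congr (S.equiv S').toEquiv]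
  exact h1

/-! ### Counting -/

/-- The number of elements of odd order commuting with an involution. -/
noncomputable def mval (t : G) : ℕ := nOdd (centralizer ({t} : Set G))

/-- The number of involutions commuting with an element. -/
noncomputable def fval (x : G) : ℕ := Nat.card {s : G // orderOf s = 2 ∧ Commute x s}

theorem nOdd_congr {A B : Type*} [Group A] [Group B] (e : A ≃* B) : nOdd A = nOdd B :=
  Nat.card_congr (e.toEquiv.subtypeEquiv fun a => by
    show Odd (orderOf a) ↔ Odd (orderOf (e a))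
    rw [MulEquiv.orderOf_eq])

theorem Hyp.mval_eq (h : Hyp G p q) {s t : G} (hs : orderOf s = 2) (ht : orderOf t = 2) : mval s = mval t := by
  obtain ⟨α, hα⟩ := h.orb s t (hs.trans ht.symm)
  exact nOdd_congr (cenEquiv α hα)

theorem Hyp.fval_eq (h : Hyp G p q) {x y : G} (hx : orderOf x = p) (hy : orderOf y = p) : fval x = fval y := by
  obtain ⟨α, hα⟩ := h.orb x y (hx.trans hy.symm)
  refine Nat.card_congr (α.toEquiv.subtypeEquiv fun s => ?_)
  show orderOf s = 2 ∧ Commute x s ↔ orderOf (α s) = 2 ∧ Commute y (α s)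
  rw [MulEquiv.orderOf_eq, ← hα]
  refine and_congr_right fun _ => ⟨fun e => e.map α, fun e => ?_⟩
  have := e.map α.symm
  simpa using this

/-- The class equation by orders. -/
theorem Hyp.card_eq (h : Hyp G p q) :
    Nat.card G = 1 + cnt G 2 + cnt G p + cnt G q + cnt G (2 * p) := by
  classical
  haveI := Fintype.ofFinite G
  have hp := h.p_ge
  have hq := h.q_ge
  have hpq := h.hpq
  have hodd := h.q_odd
  have hne : 2 * p ≠ q := fun e => by rw [← e] at hodd; exact absurd hodd (Nat.not_odd_iff_even.2 (even_two_mul p))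
  have h1 := Finset.card_eq_sum_card_fiberwise (f := fun g : G => orderOf g) (s := Finset.univ)
    (t := ({1, 2, p, q, 2 * p} : Finset ℕ)) (fun g _ => by simpa using h.ord g)
  have hcnt : ∀ n, (Finset.univ.filter fun g : G => orderOf g = n).card = cnt G n := fun n => by
    rw [cnt, Nat.card_eq_fintype_card, Fintype.card_subtype]
  simp only [hcnt] at h1
  have hone : cnt G 1 = 1 := by
    rw [cnt, Nat.card_eq_one_iff_unique]
    exact ⟨⟨fun a b => Subtype.ext ((orderOf_eq_one_iff.1 a.2).trans (orderOf_eq_one_iff.1 b.2).symm)⟩,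
      ⟨1, orderOf_one⟩⟩
  rw [Finset.sum_insert (by simp; omega), Finset.sum_insert (by simp; omega),
    Finset.sum_insert (by simp; omega), Finset.sum_insert (by simp; omega), Finset.sum_singleton, hone,
    Finset.card_univ, ← Nat.card_eq_fintype_card] at h1
  omega

theorem Hyp.cnt_two_p (h : Hyp G p q) :
    cnt G (2 * p) = Nat.card {w : G × G // orderOf w.1 = 2 ∧ orderOf w.2 = p ∧ Commute w.1 w.2} := by
  refine (Nat.card_eq_of_bijective (fun w : {w : G × G // orderOf w.1 = 2 ∧ orderOf w.2 = p ∧ Commute w.1 w.2} =>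
    (⟨w.1.1 * w.1.2, ?_⟩ : {g : G // orderOf g = 2 * p})) ⟨?_, ?_⟩).symm
  · obtain ⟨h1, h2, h3⟩ := w.2
    rw [h3.orderOf_mul_eq_mul_orderOf_of_coprime, h1, h2]
    rw [h1, h2]
    exact (Nat.coprime_primes Nat.prime_two h.hp).2 h.hp2.symm
  · rintro ⟨⟨t, x⟩, h1, h2, h3⟩ ⟨⟨t', x'⟩, h1', h2', h3'⟩ e
    have e' : t * x = t' * x' := congrArg Subtype.val e
    have hpo := h.p_odd
    have key : ∀ a b : G, orderOf a = 2 → orderOf b = p → Commute a b → (a * b) ^ p = a := by
      intro a b ha hb hab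
      rw [hab.mul_pow, ← hb, pow_orderOf_eq_one, mul_one, hb]
      obtain ⟨j, hj⟩ := hpo
      rw [hj, pow_add, pow_one, pow_mul, ← ha, pow_orderOf_eq_one, one_pow, one_mul]
    have ht : t = t' := by rw [← key t x h1 h2 h3, e', key t' x' h1' h2' h3']
    subst ht
    simp only [mul_right_inj] at e'
    subst e'
    rfl
  · rintro ⟨w, hw⟩
    refine ⟨⟨(w ^ p, w ^ (p + 1)), ?_, ?_, (Commute.refl w).pow_pow _ _⟩, Subtype.ext ?_⟩
    · show orderOf (w ^ p) = 2
      rw [orderOf_pow_of_dvd h.hp.ne_zero (hw ▸ dvd_mul_left p 2), hw, Nat.mul_div_cancel _ h.hp.pos]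
    · show orderOf (w ^ (p + 1)) = p
      obtain ⟨j, hj⟩ := h.p_odd
      rw [orderOf_pow, hw, show p + 1 = 2 * (j + 1) by omega, Nat.gcd_mul_left]
      have : Nat.gcd p (j + 1) = 1 := by
        refine (h.hp.coprime_iff_not_dvd.2 fun hd => ?_)
        have := Nat.le_of_dvd (by omega) hd
        have := h.p_ge
        omega
      rw [this, mul_one, Nat.mul_div_cancel_left _ two_pos]
    · show w ^ p * w ^ (p + 1) = w
      rw [← pow_add, show p + (p + 1) = 2 * p + 1 by omega, pow_succ, ← hw, pow_orderOf_eq_one, one_mul]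

theorem Hyp.mval_split (h : Hyp G p q) {t : G} (ht : orderOf t = 2) :
    mval t = 1 + Nat.card {x : G // orderOf x = p ∧ Commute t x} := by
  classical
  haveI := Fintype.ofFinite G
  let e : {a : centralizer ({t} : Set G) // Odd (orderOf a)} ≃
      {x : G // (x = 1 ∨ orderOf x = p) ∧ Commute t x} :=
    { toFun := fun a => ⟨a.1.1, by
        have hc := cen_comm a.1.2
        have ho : Odd (orderOf (a.1.1 : G)) := by rw [Subgroup.orderOf_coe]; exact a.2
        exact ⟨(h.ord_odd_comm ht hc ho).imp orderOf_eq_one_iff.1 id, hc.symm⟩⟩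
      invFun := fun x => ⟨⟨x.1, mem_cen_of_comm x.2.2.symm⟩, by
        rw [Subgroup.orderOf_mk]
        rcases x.2.1 with e | e
        · rw [e, orderOf_one]; exact odd_one
        · rw [e]; exact h.p_odd⟩
      left_inv := fun a => rfl
      right_inv := fun x => rfl }
  rw [mval, nOdd, Nat.card_congr e, Nat.card_eq_fintype_card, Nat.card_eq_fintype_card, Fintype.card_subtype,
    Fintype.card_subtype,
    show (Finset.univ.filter fun x : G => (x = 1 ∨ orderOf x = p) ∧ Commute t x) =
      insert 1 (Finset.univ.filter fun x : G => orderOf x = p ∧ Commute t x) from by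
        ext x
        simp only [Finset.mem_filter, Finset.mem_univ, true_and, Finset.mem_insert]
        constructor
        · rintro ⟨e | e, hc⟩
          · exact Or.inl e
          · exact Or.inr ⟨e, hc⟩
        · rintro (e | ⟨e, hc⟩)
          · exact ⟨Or.inl e, e ▸ Commute.one_right t⟩
          · exact ⟨Or.inr e, hc⟩,
    Finset.card_insert_of_notMem (by simp [h.hp.ne_one.symm]), add_comm]

/-- The number of elements of even order. -/
theorem Hyp.even_count (h : Hyp G p q) {t : G} (ht : orderOf t = 2) :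
    cnt G 2 + cnt G (2 * p) = cnt G 2 * mval t := by
  classical
  haveI := Fintype.ofFinite G
  let e : {w : G × G // orderOf w.1 = 2 ∧ orderOf w.2 = p ∧ Commute w.1 w.2} ≃
      Σ s : {s : G // orderOf s = 2}, {x : G // orderOf x = p ∧ Commute s.1 x} :=
    { toFun := fun w => ⟨⟨w.1.1, w.2.1⟩, ⟨w.1.2, w.2.2⟩⟩
      invFun := fun s => ⟨(s.1.1, s.2.1), s.1.2, s.2.2⟩
      left_inv := fun _ => rfl
      right_inv := fun _ => rfl }
  rw [h.cnt_two_p, Nat.card_congr e, Nat.card_sigma, Finset.sum_congr rfl (fun s _ =>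
    (show Nat.card {x : G // orderOf x = p ∧ Commute s.1 x} = mval t - 1 by
      rw [← h.mval_eq s.2 ht, h.mval_split s.2, Nat.add_sub_cancel_left])),
    Finset.sum_const, smul_eq_mul, Finset.card_univ, ← Nat.card_eq_fintype_card, cnt]
  have h1 : 1 ≤ mval t := by rw [h.mval_split ht]; omega
  obtain ⟨m, hm⟩ := Nat.exists_eq_add_of_le h1
  rw [hm, Nat.add_sub_cancel_left]
  ring

theorem Hyp.cnt_p_mul (h : Hyp G p q) {x : G} (hx : orderOf x = p) :
    cnt G p * fval x = cnt G (2 * p) := by
  classical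
  haveI := Fintype.ofFinite G
  let e : {w : G × G // orderOf w.1 = 2 ∧ orderOf w.2 = p ∧ Commute w.1 w.2} ≃
      Σ y : {y : G // orderOf y = p}, {s : G // orderOf s = 2 ∧ Commute y.1 s} :=
    { toFun := fun w => ⟨⟨w.1.2, w.2.2.1⟩, ⟨w.1.1, w.2.1, w.2.2.2.symm⟩⟩
      invFun := fun s => ⟨(s.2.1, s.1.1), s.2.2.1, s.1.2, s.2.2.2.symm⟩
      left_inv := fun _ => rfl
      right_inv := fun _ => rfl }
  have h1 : ∀ y : {y : G // orderOf y = p},
      Nat.card {s : G // orderOf s = 2 ∧ Commute y.1 s} = fval x := fun y => h.fval_eq y.2 hx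
  rw [h.cnt_two_p, Nat.card_congr e, Nat.card_sigma, Finset.sum_congr rfl (fun y _ => h1 y),
    Finset.sum_const, smul_eq_mul, Finset.card_univ, ← Nat.card_eq_fintype_card, cnt]

end Cfsg.Agent.Transfer.FiveOrbits
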