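import Mathlib
import Cfsg.Agent.Lib.Transfer.FiveOrbits.Basic

/-!
The normaliser of a Sylow 2-subgroup `T`, its action on `T`, and the number of elements of even order.
-/

set_option autoImplicit false
set_option linter.style.haveILetI false

open scoped Pointwise

universe u

namespace Cfsg.Agent.Transfer.FiveOrbits

open Subgroup

variable {G : Type u} [Group G] [Finite G] {p q : ℕ}

theorem isSolvable_of_two_primes {A : Type*} [Group A] [Finite A] {r s : ℕ} (hr : r.Prime) (hs : s.Prime)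
    (h : ∀ l : ℕ, l.Prime → l ∣ Nat.card A → l = r ∨ l = s) : Group.IsSolvable A := by
  have h0 : Nat.card A ≠ 0 := Nat.card_pos.ne'
  refine S0144.result r s ((Nat.card A).factorization r)
    ((Nat.card A / r ^ (Nat.card A).factorization r).primeFactorsList.length) hr hs ?_
  conv_lhs => rw [← Nat.ordProj_mul_ordCompl_eq_self (Nat.card A) r]
  congr 1
  refine Nat.eq_prime_pow_of_unique_prime_dvd (Nat.ordCompl_pos r h0).ne' ?_
  intro l hl hd
  refine ((h l hl (hd.trans (Nat.ordCompl_dvd _ _))).resolve_left ?_)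
  rintro rfl
  exact Nat.not_dvd_ordCompl hl h0 hd

theorem Hyp.cen_solvable (h : Hyp G p q) {t : G} (ht : orderOf t = 2) :
    Group.IsSolvable (centralizer ({t} : Set G)) := by
  refine isSolvable_of_two_primes Nat.prime_two h.hp fun l hl hd => ?_
  haveI := Fact.mk hl
  obtain ⟨x, hx⟩ := exists_prime_orderOf_dvd_card' l hd
  have h1 := h.ord_of_comm ht (cen_comm x.2)
  rw [Subgroup.orderOf_coe, hx] at h1
  rcases hl.dvd_mul.1 h1 with e | e
  · exact Or.inl ((Nat.prime_dvd_prime_iff_eq hl Nat.prime_two).1 e)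
  · exact Or.inr ((Nat.prime_dvd_prime_iff_eq hl h.hp).1 e)

/-- The normaliser of a subgroup, as used below. -/
abbrev nor (T : Subgroup G) : Subgroup G := normalizer (T : Set G)

/-- The number of Sylow 2-subgroups through `t`. -/
noncomputable def sig (t : G) : ℕ := Nat.card {S : Sylow 2 G // t ∈ (S : Subgroup G)}

/-- The elements of `N(T)` fixing `t`. -/
noncomputable def norFix (T : Sylow 2 G) (t : G) : ℕ :=
  Nat.card {n : G // n ∈ nor (T : Subgroup G) ∧ Commute n t}

/-- The elements of odd order of `N(T)` fixing `t`. -/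
noncomputable def oddNor (T : Sylow 2 G) (t : G) : ℕ :=
  Nat.card {n : G // (n ∈ nor (T : Subgroup G) ∧ Commute n t) ∧ Odd (orderOf n)}

theorem Hyp.sig_eq (h : Hyp G p q) {s t : G} (hs : orderOf s = 2) (ht : orderOf t = 2) : sig s = sig t := by
  haveI := Fact.mk Nat.prime_two
  have mono : ∀ a b : G, orderOf a = orderOf b → sig a ≤ sig b := by
    intro a b hab
    obtain ⟨α, hα⟩ := h.orb a b hab
    have hf : Function.Surjective α.toMonoidHom := fun y => α.surjective y
    refine Nat.card_le_card_of_injective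
      (fun S => ⟨S.1.mapSurjective hf, ?_⟩) ?_
    · rw [Sylow.coe_mapSurjective]
      exact ⟨a, S.2, hα⟩
    · rintro ⟨S, _⟩ ⟨S', _⟩ e
      have e1 := congrArg (fun X => ((X : Sylow 2 G) : Subgroup G)) (congrArg Subtype.val e)
      simp only [Sylow.coe_mapSurjective] at e1
      exact Subtype.ext (Sylow.ext (map_injective α.injective e1))
  exact le_antisymm (mono s t (hs.trans ht.symm)) (mono t s (ht.trans hs.symm))

theorem Hyp.sig_mul (h : Hyp G p q) (T : Sylow 2 G) {t : G} (htT : t ∈ (T : Subgroup G)) :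
    sig t * norFix T t = Nat.card (centralizer ({t} : Set G)) := by
  haveI := Fact.mk Nat.prime_two
  set C := centralizer ({t} : Set G) with hC
  have horb : MulAction.orbit C T = {S : Sylow 2 G | t ∈ (S : Subgroup G)} := by
    ext S
    constructor
    · rintro ⟨c, rfl⟩
      show t ∈ ((((c : G) • T : Sylow 2 G)) : Subgroup G)
      rw [Sylow.coe_subgroup_smul]
      refine ⟨t, htT, ?_⟩
      show (c : G) * t * (c : G)⁻¹ = t
      rw [(cen_comm c.2).eq, mul_inv_cancel_right]
    · intro hS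
      obtain ⟨c, hc⟩ := MulAction.exists_smul_eq C (T.subtype (h.sylow_le_cen T htT))
        (S.subtype (h.sylow_le_cen S hS))
      refine ⟨c, ?_⟩
      have := hc
      rw [Sylow.smul_subtype] at this
      exact Sylow.subtype_injective this
  have h1 := MulAction.index_stabilizer C T
  rw [horb, ← Nat.card_coe_set_eq] at h1
  have h2 := (MulAction.stabilizer C T).index_mul_card
  rw [h1] at h2
  have h3 : Nat.card (MulAction.stabilizer C T) = norFix T t := by
    refine Nat.card_eq_of_bijective (fun c => ⟨(c.1 : G), ?_, cen_comm c.1.2⟩) ⟨?_, ?_⟩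
    · exact Sylow.smul_eq_iff_mem_normalizer.1 (MulAction.mem_stabilizer_iff.1 c.2)
    · intro a b e
      simp only [Subtype.mk.injEq] at e
      exact Subtype.ext (Subtype.ext e)
    · rintro ⟨n, hn, hc⟩
      exact ⟨⟨⟨n, mem_cen_of_comm hc⟩, MulAction.mem_stabilizer_iff.2 (Sylow.smul_eq_iff_mem_normalizer.2 hn)⟩,
        rfl⟩
  rw [h3] at h2
  exact h2

theorem Hyp.cnt_two_mul (h : Hyp G p q) (T : Sylow 2 G) {t : G} (ht : orderOf t = 2) :
    cnt G 2 * sig t = Nat.card (Sylow 2 G) * (Nat.card (T : Subgroup G) - 1) := by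
  classical
  haveI := Fact.mk Nat.prime_two
  haveI := Fintype.ofFinite G
  haveI := Fintype.ofFinite (Sylow 2 G)
  let e : (Σ s : {s : G // orderOf s = 2}, {S : Sylow 2 G // s.1 ∈ (S : Subgroup G)}) ≃
      (Σ S : Sylow 2 G, {s : (S : Subgroup G) // s ≠ 1}) :=
    { toFun := fun a => ⟨a.2.1, ⟨⟨a.1.1, a.2.2⟩, fun e => by
        have := a.1.2
        rw [show (a.1.1 : G) = 1 from congrArg Subtype.val e, orderOf_one] at this
        omega⟩⟩
      invFun := fun a => ⟨⟨a.2.1.1, h.orderOf_mem a.1 a.2.1.2 fun e => a.2.2 (Subtype.ext e)⟩, ⟨a.1, a.2.1.2⟩⟩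
      left_inv := fun _ => rfl
      right_inv := fun _ => rfl }
  have h2 := Nat.card_congr e
  have l1 : ∀ s : {s : G // orderOf s = 2}, Nat.card {S : Sylow 2 G // s.1 ∈ (S : Subgroup G)} = sig t :=
    fun s => h.sig_eq s.2 ht
  have r1 : ∀ S : Sylow 2 G, Nat.card {s : (S : Subgroup G) // s ≠ 1} = Nat.card (T : Subgroup G) - 1 := by
    intro S
    rw [Nat.card_eq_fintype_card, Fintype.card_subtype_compl, Fintype.card_subtype_eq, ← Nat.card_eq_fintype_card,
      Nat.card_congr (S.equiv T).toEquiv]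
  rw [Nat.card_sigma, Nat.card_sigma, Finset.sum_congr rfl (fun s _ => l1 s),
    Finset.sum_congr rfl (fun S _ => r1 S), Finset.sum_const, Finset.sum_const, smul_eq_mul, smul_eq_mul,
    Finset.card_univ, Finset.card_univ, ← Nat.card_eq_fintype_card, ← Nat.card_eq_fintype_card] at h2
  exact h2

theorem Hyp.mval_mul (h : Hyp G p q) (T : Sylow 2 G) {t : G} (ht : orderOf t = 2) (htT : t ∈ (T : Subgroup G)) :
    mval t * norFix T t = Nat.card (centralizer ({t} : Set G)) * oddNor T t := by
  haveI := Fact.mk Nat.prime_two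
  haveI := h.cen_solvable ht
  set C := centralizer ({t} : Set G) with hC
  have hTC := h.sylow_le_cen T htT
  have hcomm : IsMulCommutative (T.subtype hTC : Subgroup C) :=
    ⟨⟨fun a b => Subtype.ext (Subtype.ext (h.comm_mem T a.2 b.2))⟩⟩
  have h1 := nOdd_normalizer (T.subtype hTC) hcomm
  have hmem : ∀ a : C, a ∈ normalizer (((T.subtype hTC : Sylow 2 C) : Subgroup C) : Set C) ↔
      (a : G) ∈ nor (T : Subgroup G) := by
    intro a
    rw [Sylow.coe_subtype]
    constructor
    · intro ha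
      refine mem_normalizer_fintype fun y hy => ?_
      exact (Subgroup.mem_normalizer_iff.1 ha ⟨y, hTC hy⟩).1 hy
    · intro ha
      exact Subgroup.mem_normalizer_iff.2 fun y => Subgroup.mem_normalizer_iff.1 ha (y : G)
  have h2 : Nat.card (normalizer (((T.subtype hTC : Sylow 2 C) : Subgroup C) : Set C)) = norFix T t := by
    refine Nat.card_eq_of_bijective (fun a => ⟨(a.1 : G), (hmem a.1).1 a.2, cen_comm a.1.2⟩) ⟨?_, ?_⟩
    · intro a b e
      simp only [Subtype.mk.injEq] at e
      exact Subtype.ext (Subtype.ext e)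
    · rintro ⟨n, hn, hc⟩
      exact ⟨⟨⟨n, mem_cen_of_comm hc⟩, (hmem _).2 hn⟩, rfl⟩
  have h3 : nOdd (normalizer (((T.subtype hTC : Sylow 2 C) : Subgroup C) : Set C)) = oddNor T t := by
    refine Nat.card_eq_of_bijective (fun a => ⟨(a.1.1 : G), ⟨(hmem a.1.1).1 a.1.2, cen_comm a.1.1.2⟩, by
      rw [Subgroup.orderOf_coe, Subgroup.orderOf_coe]; exact a.2⟩) ⟨?_, ?_⟩
    · intro a b e
      simp only [Subtype.mk.injEq] at e
      exact Subtype.ext (Subtype.ext (Subtype.ext e))
    · rintro ⟨n, ⟨hn, hc⟩, ho⟩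
      refine ⟨⟨⟨⟨n, mem_cen_of_comm hc⟩, (hmem _).2 hn⟩, ?_⟩, rfl⟩
      rwa [← Subgroup.orderOf_coe, ← Subgroup.orderOf_coe]
  rw [h2, h3] at h1
  exact h1

theorem card_sylow_mul [Finite G] (T : Sylow 2 G) :
    Nat.card (Sylow 2 G) * Nat.card (nor (T : Subgroup G)) = Nat.card G := by
  haveI := Fact.mk Nat.prime_two
  rw [Sylow.card_eq_index_normalizer T]
  exact (nor (T : Subgroup G)).index_mul_card

/-- The number of elements of even order, in terms of `N(T)`. -/
theorem Hyp.even_mul (h : Hyp G p q) (T : Sylow 2 G) {t : G} (ht : orderOf t = 2) (htT : t ∈ (T : Subgroup G)) :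
    (cnt G 2 + cnt G (2 * p)) * Nat.card (nor (T : Subgroup G)) =
      Nat.card G * (Nat.card (T : Subgroup G) - 1) * oddNor T t := by
  have hpos : 0 < norFix T t := by
    haveI : Nonempty {n : G // n ∈ nor (T : Subgroup G) ∧ Commute n t} :=
      ⟨⟨1, one_mem _, Commute.one_left t⟩⟩
    exact Nat.card_pos
  have h1 := h.mval_mul T ht htT
  rw [← h.sig_mul T htT, mul_assoc (sig t), mul_comm (norFix T t) (oddNor T t), ← mul_assoc] at h1
  have hm : mval t = sig t * oddNor T t := Nat.eq_of_mul_eq_mul_right hpos h1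
  rw [h.even_count ht, hm, ← mul_assoc, h.cnt_two_mul T ht, ← card_sylow_mul T]
  ring

/-! ### The action on `T` -/

/-- The action of `N(T)` on `T`. -/
noncomputable abbrev act (T : Sylow 2 G) : nor (T : Subgroup G) →* MulAut (T : Subgroup G) :=
  (T : Subgroup G).normalizerMonoidHom

theorem act_coe (T : Sylow 2 G) (n : nor (T : Subgroup G)) (s : (T : Subgroup G)) :
    ((act T n s : (T : Subgroup G)) : G) = (n : G) * s * (n : G)⁻¹ := rfl

theorem act_eq_iff (T : Sylow 2 G) (n : nor (T : Subgroup G)) (s : (T : Subgroup G)) :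
    act T n s = s ↔ Commute (n : G) s := by
  rw [Subtype.ext_iff, act_coe, mul_inv_eq_iff_eq_mul]
  rfl

theorem act_ker_iff (T : Sylow 2 G) (n : nor (T : Subgroup G)) :
    n ∈ (act T).ker ↔ ∀ s ∈ (T : Subgroup G), Commute (n : G) s := by
  rw [MonoidHom.mem_ker]
  constructor
  · intro e s hs
    exact (act_eq_iff T n ⟨s, hs⟩).1 (by rw [e]; rfl)
  · intro hn
    exact MulEquiv.ext fun s => (act_eq_iff T n s).2 (hn s s.2)

/-- The fixed points of an automorphism of `T`. -/
def fx {T : Subgroup G} (l : MulAut T) : Subgroup T where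
  carrier := {s | l s = s}
  one_mem' := map_one l
  mul_mem' {a b} (ha : l a = a) (hb : l b = b) := by
    show l (a * b) = a * b
    rw [map_mul, ha, hb]
  inv_mem' {a} (ha : l a = a) := by
    show l a⁻¹ = a⁻¹
    rw [map_inv, ha]

theorem mem_fx {T : Subgroup G} {l : MulAut T} {s : T} : s ∈ fx l ↔ l s = s := Iff.rfl

theorem fx_one {T : Subgroup G} : fx (1 : MulAut T) = ⊤ := eq_top_iff.2 fun _ _ => rfl

/-- The elements of odd order acting as `l`. -/
noncomputable def oddFib (T : Sylow 2 G) (l : MulAut (T : Subgroup G)) : ℕ :=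
  Nat.card {n : nor (T : Subgroup G) // act T n = l ∧ Odd (orderOf n)}

theorem Hyp.oddFib_mul (h : Hyp G p q) (T : Sylow 2 G) (l : MulAut (T : Subgroup G)) :
    oddFib T l * Nat.card (fx l) ≤ Nat.card (act T).ker := by
  classical
  have hTN : (T : Subgroup G) ≤ nor (T : Subgroup G) := le_normalizer
  rcases isEmpty_or_nonempty {n : nor (T : Subgroup G) // act T n = l ∧ Odd (orderOf n)} with hE | ⟨⟨n₀, hn₀⟩⟩
  · rw [oddFib, Nat.card_of_isEmpty, zero_mul]
    exact Nat.zero_le _
  have hs1 : ∀ s : (T : Subgroup G), act T ⟨s, hTN s.2⟩ = 1 := fun s =>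
    MulEquiv.ext fun r => (act_eq_iff T _ r).2 (h.comm_mem T s.2 r.2)
  rw [oddFib, ← Nat.card_prod]
  refine Nat.card_le_card_of_injective
    (fun a => ⟨n₀⁻¹ * (a.1.1 * ⟨(a.2.1 : G), hTN a.2.1.2⟩), ?_⟩) ?_
  · rw [MonoidHom.mem_ker, map_mul, map_mul, map_inv, a.1.2.1, hn₀.1, hs1, mul_one, inv_mul_cancel]
  · rintro ⟨⟨n, hn, hno⟩, ⟨s, hs⟩⟩ ⟨⟨n', hn', hno'⟩, ⟨s', hs'⟩⟩ e
    have e' : (n : G) * s = (n' : G) * s' :=
      congrArg Subtype.val (mul_left_cancel (congrArg Subtype.val e))
    have hc : Commute (n : G) s := (act_eq_iff T n s).1 (by rw [hn]; exact hs)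
    have hc' : Commute (n' : G) s' := (act_eq_iff T n' s').1 (by rw [hn']; exact hs')
    have e2 : (n : G) ^ 2 = (n' : G) ^ 2 := by
      have hp2 := congrArg (· ^ 2) e'
      simp only [hc.mul_pow, hc'.mul_pow] at hp2
      rwa [pow_two (s : G), pow_two (s' : G), h.sq_eq_one T s.2, h.sq_eq_one T s'.2, mul_one, mul_one] at hp2
    have key : ∀ x : nor (T : Subgroup G), Odd (orderOf x) → ((x : G) ^ 2) ^ ((p * q + 1) / 2) = x := by
      intro x hx
      obtain ⟨j, hj⟩ := h.p_odd.mul h.q_odd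
      rw [← pow_mul, show 2 * ((p * q + 1) / 2) = p * q + 1 by omega, pow_succ]
      have hd : orderOf (x : G) ∣ p * q := by
        rcases h.ord_odd (g := (x : G)) (by rwa [Subgroup.orderOf_coe]) with e | e | e <;> rw [e]
        · exact one_dvd _
        · exact dvd_mul_right _ _
        · exact dvd_mul_left _ _
      rw [orderOf_dvd_iff_pow_eq_one.1 hd, one_mul]
    have en : (n : G) = n' := by rw [← key n hno, e2, key n' hno']
    rw [← en] at e'
    have es := mul_left_cancel e'
    simp only [Prod.mk.injEq, Subtype.mk.injEq]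
    exact ⟨Subtype.ext en, Subtype.ext es⟩

/-- The odd elements fixing `t`, sorted by their action. -/
theorem oddNor_le (T : Sylow 2 G) (t : (T : Subgroup G)) (U : Finset (MulAut (T : Subgroup G)))
    (hU : ∀ n : nor (T : Subgroup G), act T n t = t → Odd (orderOf n) → act T n ∈ U) :
    oddNor T t ≤ ∑ l ∈ U, oddFib T l := by
  classical
  rw [← Finset.sum_coe_sort U (fun l => oddFib T l)]
  show oddNor T t ≤ ∑ l : U, Nat.card {n : nor (T : Subgroup G) // act T n = l.1 ∧ Odd (orderOf n)}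
  rw [← Nat.card_sigma]
  refine Nat.card_le_card_of_injective
    (fun n => ⟨⟨act T ⟨n.1, n.2.1.1⟩, hU _ ((act_eq_iff T _ t).2 n.2.1.2) (by
      rw [Subgroup.orderOf_mk]; exact n.2.2)⟩, ⟨⟨n.1, n.2.1.1⟩, rfl, by
      rw [Subgroup.orderOf_mk]; exact n.2.2⟩⟩) ?_
  intro a b e
  have := congrArg (fun x : Σ l : U, {n : nor (T : Subgroup G) // act T n = l.1 ∧ Odd (orderOf n)} =>
    (x.2.1 : G)) e
  exact Subtype.ext this

theorem card_nor_eq (T : Sylow 2 G) :
    Nat.card (nor (T : Subgroup G)) = Nat.card (act T).range * Nat.card (act T).ker := by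
  rw [Subgroup.card_eq_card_quotient_mul_card_subgroup (act T).ker,
    Nat.card_congr (QuotientGroup.quotientKerEquivRange (act T)).toEquiv]

end Cfsg.Agent.Transfer.FiveOrbits
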