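import Mathlib
import Cfsg.Agent.Lib.Transfer.FiveOrbits.Normalizer
import Cfsg.Agent.Lib.Invol.CharP
import Cfsg.Agent.Lib.Transfer.ThreeSizes.Orbit
import Cfsg.Agent.S3371

/-!
The group `L` induced by `N(T)` on `T`.
-/

set_option autoImplicit false
set_option linter.style.haveILetI false

open scoped Pointwise

universe u

namespace Cfsg.Agent.Transfer.FiveOrbits

open Subgroup

variable {G : Type u} [Group G] [Finite G] {p q : ℕ}

/-- The induced group on `T`. -/
noncomputable abbrev autL (T : Sylow 2 G) : Subgroup (MulAut (T : Subgroup G)) := (act T).range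

theorem Hyp.transfer_bot (h : Hyp G p q) {s : ℕ} [Fact s.Prime] (P : Sylow s G) (hne : (P : Subgroup G) ≠ ⊥)
    (hle : normalizer ((P : Subgroup G) : Set G) ≤ centralizer ((P : Subgroup G) : Set G)) : False := by
  have hc := MonoidHom.ker_transferSylow_isComplement' P hle
  have hmul := hc.card_mul
  rcases h.normal_eq (MonoidHom.transferSylow P hle).ker with e | e
  · rw [e, card_bot, one_mul] at hmul
    exact h.not_top P.isPGroup' (Subgroup.eq_top_of_card_eq _ hmul)
  · rw [e, card_top] at hmul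
    exact hne (Subgroup.card_eq_one.1 (Nat.eq_of_mul_eq_mul_left Nat.card_pos (hmul.trans (mul_one _).symm)))

theorem Hyp.tmem_le_ker (h : Hyp G p q) (T : Sylow 2 G) :
    (T : Subgroup G).subgroupOf (nor (T : Subgroup G)) ≤ (act T).ker :=
  fun n hn => (act_ker_iff T n).2 fun _ hs => h.comm_mem T hn hs

theorem Hyp.card_T_dvd_ker (h : Hyp G p q) (T : Sylow 2 G) :
    Nat.card (T : Subgroup G) ∣ Nat.card (act T).ker := by
  rw [← Nat.card_congr (Subgroup.subgroupOfEquivOfLe (le_normalizer (H := (T : Subgroup G)))).toEquiv]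
  exact Subgroup.card_dvd_of_le (h.tmem_le_ker T)

theorem Hyp.autL_odd (h : Hyp G p q) (T : Sylow 2 G) : Odd (Nat.card (autL T)) := by
  haveI := Fact.mk Nat.prime_two
  rw [← Nat.not_even_iff_odd]
  intro he
  obtain ⟨j, hj⟩ := h.card_T_dvd_ker T
  have h1 := (nor (T : Subgroup G)).index_mul_card
  rw [card_nor_eq T, hj] at h1
  have h2 := (T : Subgroup G).index_mul_card
  have h3 : (T : Subgroup G).index = (nor (T : Subgroup G)).index * Nat.card (autL T) * j := by
    refine Nat.eq_of_mul_eq_mul_right (Nat.card_pos (α := (T : Subgroup G))) (h2.trans (h1.symm.trans ?_))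
    ring
  exact T.not_dvd_index (h3 ▸ (he.two_dvd.mul_left _).mul_right j)

theorem Hyp.autL_orderOf (h : Hyp G p q) (T : Sylow 2 G) {l : MulAut (T : Subgroup G)} (hl : l ∈ autL T) :
    orderOf l = 1 ∨ orderOf l = p ∨ orderOf l = q := by
  obtain ⟨n, rfl⟩ := hl
  have ho : Odd (orderOf (act T n)) := (h.autL_odd T).of_dvd_nat (Subgroup.orderOf_dvd_natCard _ ⟨n, rfl⟩)
  have hd : orderOf (act T n) ∣ orderOf (n : G) := by
    rw [Subgroup.orderOf_coe]; exact orderOf_map_dvd _ _
  rcases h.ord_dvd (n : G) with e | e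
  · have h1 := hd.trans e
    have h2 : orderOf (act T n) ∣ p := (Nat.Coprime.dvd_mul_left ((Nat.coprime_two_left.2 ho).symm)).1 h1
    exact (h.hp.eq_one_or_self_of_dvd _ h2).imp id Or.inl
  · exact ((h.hq.eq_one_or_self_of_dvd _ (e ▸ hd))).imp id Or.inr

/-- An element of `L` fixing a non-trivial element has order `1` or `p`. -/
theorem Hyp.fixed_orderOf (h : Hyp G p q) (T : Sylow 2 G) {l : MulAut (T : Subgroup G)} (hl : l ∈ autL T)
    {t : (T : Subgroup G)} (ht : t ≠ 1) (hlt : l t = t) : orderOf l = 1 ∨ orderOf l = p := by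
  have hl' := hl
  obtain ⟨n, rfl⟩ := hl'
  rcases h.autL_orderOf T hl with e | e | e
  · exact Or.inl e
  · exact Or.inr e
  · exfalso
    have h2 : orderOf (t : G) = 2 := h.orderOf_mem T t.2 fun e => ht (Subtype.ext e)
    have h1 := h.ord_of_comm h2 ((act_eq_iff T n t).1 hlt)
    have hd : q ∣ orderOf (n : G) := by
      rw [← e, Subgroup.orderOf_coe]; exact orderOf_map_dvd _ _
    rcases h.hq.dvd_mul.1 (hd.trans h1) with e1 | e1
    · exact h.hq2 ((Nat.prime_dvd_prime_iff_eq h.hq Nat.prime_two).1 e1)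
    · exact h.hpq ((Nat.prime_dvd_prime_iff_eq h.hq h.hp).1 e1).symm

theorem Hyp.T_ne_bot (h : Hyp G p q) (T : Sylow 2 G) : (T : Subgroup G) ≠ ⊥ := fun e => by
  have := h.four_le T
  rw [e, card_bot] at this
  omega

theorem Hyp.autL_ne_bot (h : Hyp G p q) (T : Sylow 2 G) : autL T ≠ ⊥ := by
  haveI := Fact.mk Nat.prime_two
  intro e
  refine h.transfer_bot T (h.T_ne_bot T) fun n hn => mem_centralizer_iff.2 fun s hs => ?_
  have hn' : (⟨n, hn⟩ : nor (T : Subgroup G)) ∈ (act T).ker := by
    rw [MonoidHom.mem_ker]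
    exact mem_bot.1 (e ▸ ⟨_, rfl⟩)
  exact ((act_ker_iff T _).1 hn' s hs).eq.symm

theorem Hyp.three_le_autL (h : Hyp G p q) (T : Sylow 2 G) : 3 ≤ Nat.card (autL T) := by
  have h1 := Subgroup.one_lt_card_iff_ne_bot _ |>.2 (h.autL_ne_bot T)
  obtain ⟨j, hj⟩ := h.autL_odd T
  omega

/-- The automorphism group fixing `T` is transitive on `T` and normalises `L`. -/
theorem Hyp.trans_norm (h : Hyp G p q) (T : Sylow 2 G) {s t : (T : Subgroup G)} (hs : s ≠ 1) (ht : t ≠ 1) :
    ∃ β : MulAut (T : Subgroup G), β s = t ∧ ∀ l, l ∈ autL T → β * l * β⁻¹ ∈ autL T := by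
  haveI := Fact.mk Nat.prime_two
  have hos : orderOf (s : G) = 2 := h.orderOf_mem T s.2 fun e => hs (Subtype.ext e)
  have hot : orderOf (t : G) = 2 := h.orderOf_mem T t.2 fun e => ht (Subtype.ext e)
  obtain ⟨α, hα⟩ := h.orb (s : G) (t : G) (hos.trans hot.symm)
  have hf : Function.Surjective α.toMonoidHom := fun y => α.surjective y
  set S := T.mapSurjective hf with hS
  have htS : (t : G) ∈ (S : Subgroup G) := by
    rw [hS, Sylow.coe_mapSurjective]
    exact ⟨s, s.2, hα⟩
  obtain ⟨c, hc⟩ := MulAction.exists_smul_eq (centralizer ({(t : G)} : Set G))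
    (S.subtype (h.sylow_le_cen S htS)) (T.subtype (h.sylow_le_cen T t.2))
  rw [Sylow.smul_subtype] at hc
  have hcS : (c : G) • S = T := Sylow.subtype_injective hc
  set γ : MulAut G := MulAut.conj (c : G) * α with hγ
  have hγapp : ∀ y, γ y = (c : G) * α y * (c : G)⁻¹ := fun y => by
    rw [hγ, MulAut.mul_apply, MulAut.conj_apply]
  have hmap : (T : Subgroup G).map γ.toMonoidHom = (T : Subgroup G) := by
    conv_rhs => rw [← hcS, Sylow.coe_subgroup_smul, hS, Sylow.coe_mapSurjective]
    ext y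
    simp only [mem_map, MulEquiv.coe_toMonoidHom]
    constructor
    · rintro ⟨x, hx, rfl⟩
      refine ⟨α x, ⟨x, hx, rfl⟩, ?_⟩
      rw [hγapp]; rfl
    · rintro ⟨_, ⟨x, hx, rfl⟩, rfl⟩
      exact ⟨x, hx, by rw [hγapp]; rfl⟩
  let β : MulAut (T : Subgroup G) := (γ.subgroupMap (T : Subgroup G)).trans (MulEquiv.subgroupCongr hmap)
  have hβ : ∀ x : (T : Subgroup G), ((β x : (T : Subgroup G)) : G) = γ x := fun x => rfl
  refine ⟨β, Subtype.ext ?_, ?_⟩
  · rw [hβ, hγapp, hα, (cen_comm c.2).eq, mul_inv_cancel_right]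
  · rintro _ ⟨n, rfl⟩
    have hn : γ (n : G) ∈ nor (T : Subgroup G) := by
      refine mem_normalizer_fintype fun y hy => ?_
      obtain ⟨x, hx, rfl⟩ : y ∈ (T : Subgroup G).map γ.toMonoidHom := by rw [hmap]; exact hy
      refine (SetLike.ext_iff.1 hmap _).1 ?_
      exact ⟨n * x * (n : G)⁻¹, (Subgroup.mem_normalizer_iff.1 n.2 x).1 hx, by simp [map_mul, map_inv]⟩
    refine ⟨⟨γ n, hn⟩, MulEquiv.ext fun x => Subtype.ext ?_⟩
    obtain ⟨x, rfl⟩ := β.surjective x
    simp only [act_coe, MulAut.mul_apply, MulAut.inv_def, MulEquiv.symm_apply_apply, hβ, map_mul, map_inv]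

/-- Fixing a point of a fourgroup with odd order means being trivial. -/
theorem Hyp.semiregular_four (h : Hyp G p q) (T : Sylow 2 G) (h4 : Nat.card (T : Subgroup G) = 4)
    {l : MulAut (T : Subgroup G)} (hl : l ∈ autL T) {t : (T : Subgroup G)} (ht : t ≠ 1) (hlt : l t = t) :
    l = 1 := by
  classical
  haveI := Fintype.ofFinite (T : Subgroup G)
  have hsq : ∀ x, l (l x) = x := by
    intro x
    by_cases hx1 : x = 1
    · subst hx1; rw [map_one, map_one]
    by_cases hxt : x = t
    · subst hxt; rw [hlt, hlt]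
    by_contra hne
    have hlx : l x ≠ x := fun e => hne (by rw [e, e])
    have inj := l.injective
    have m1 : ∀ y, y ≠ 1 → l y ≠ 1 := fun y hy e => hy (inj (e.trans (map_one l).symm))
    have mt : ∀ y, y ≠ t → l y ≠ t := fun y hy e => hy (inj (e.trans hlt.symm))
    have d1 : l (l x) ≠ l x := fun e => hlx (inj e)
    have hcard : ({1, t, x, l x, l (l x)} : Finset (T : Subgroup G)).card = 5 := by
      rw [Finset.card_insert_of_notMem, Finset.card_insert_of_notMem, Finset.card_insert_of_notMem,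
        Finset.card_insert_of_notMem, Finset.card_singleton]
      · simpa using d1.symm
      · simp only [Finset.mem_insert, Finset.mem_singleton]; push Not; exact ⟨hlx.symm, fun e => hne e.symm⟩
      · simp only [Finset.mem_insert, Finset.mem_singleton]; push Not
        exact ⟨Ne.symm hxt, (mt x hxt).symm, (mt _ (mt x hxt)).symm⟩
      · simp only [Finset.mem_insert, Finset.mem_singleton]; push Not
        exact ⟨ht.symm, Ne.symm hx1, (m1 x hx1).symm, (m1 _ (m1 x hx1)).symm⟩
    have := Finset.card_le_univ ({1, t, x, l x, l (l x)} : Finset (T : Subgroup G))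
    rw [hcard, ← Nat.card_eq_fintype_card, h4] at this
    omega
  have h2 : l ^ 2 = 1 := MulEquiv.ext fun x => by rw [pow_two, MulAut.mul_apply]; exact hsq x
  have ho : Odd (orderOf l) := (h.autL_odd T).of_dvd_nat (Subgroup.orderOf_dvd_natCard _ hl)
  rcases (Nat.dvd_prime Nat.prime_two).1 (orderOf_dvd_of_pow_eq_one h2) with e | e
  · exact orderOf_eq_one_iff.1 e
  · rw [e] at ho; exact absurd ho (by decide)

/-- A half-transitive `r`-subgroup of exponent `r` of `L` is cyclic and semiregular. -/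
theorem Hyp.semiregular_pgroup (h : Hyp G p q) (T : Sylow 2 G) (h4 : Nat.card (T : Subgroup G) ≠ 4) {r : ℕ}
    (hr : r.Prime) (X : Subgroup (MulAut (T : Subgroup G))) (hX : IsPGroup r X) (hX1 : X ≠ ⊥)
    (hexp : ∀ l ∈ X, orderOf l = 1 ∨ orderOf l = r) (hodd : Odd (Nat.card X))
    (hhalf : ∀ v w : (T : Subgroup G), v ≠ 1 → w ≠ 1 → ∃ β : MulAut (T : Subgroup G), β v = w ∧
      (∀ l ∈ X, β * l * β⁻¹ ∈ X) ∧ (∀ l ∈ X, β⁻¹ * l * β ∈ X)) :
    Nat.card X = r ∧ ∀ l ∈ X, ∀ t : (T : Subgroup G), t ≠ 1 → l t = t → l = 1 := by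
  classical
  haveI := Fact.mk hr
  haveI := Fact.mk Nat.prime_two
  haveI : IsMulCommutative (T : Subgroup G) := h.sylow_comm T
  letI : CommGroup (T : Subgroup G) := { (inferInstance : Group (T : Subgroup G)) with mul_comm := mul_comm' }
  letI : Module (ZMod 2) (Additive (T : Subgroup G)) := AddCommGroup.zmodModule (fun v => by
    show Additive.ofMul (Additive.toMul v ^ 2) = 0
    rw [pow_two, show Additive.toMul v * Additive.toMul v = 1 from
      Subtype.ext (h.sq_eq_one T (Additive.toMul v).2)]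
    rfl)
  haveI : Nontrivial (T : Subgroup G) := (Subgroup.nontrivial_iff_ne_bot _).2 (h.T_ne_bot T)
  let ρ : X →* (Additive (T : Subgroup G) ≃ₗ[ZMod 2] Additive (T : Subgroup G)) :=
    { toFun := fun l => (MulEquiv.toAdditive (l : MulAut (T : Subgroup G))).toLinearEquiv
        (fun c v => ZMod.map_smul (MulEquiv.toAdditive (l : MulAut (T : Subgroup G))).toAddMonoidHom c v)
      map_one' := rfl
      map_mul' := fun _ _ => rfl }
  have hρ : Function.Injective ρ := fun a b e => Subtype.ext (MulEquiv.ext fun x =>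
    Additive.ofMul.injective (LinearEquiv.congr_fun e (Additive.ofMul x)))
  have hcard : Nat.card (Additive (T : Subgroup G)) = Nat.card (T : Subgroup G) := rfl
  rcases S3371.result 2 r hX ρ hρ (by
      intro v w hv hw
      obtain ⟨β, hβ, h1, h2⟩ := hhalf (Additive.toMul v) (Additive.toMul w) hv hw
      refine Nat.card_congr
        { toFun := fun u => ⟨Additive.ofMul (β (Additive.toMul u.1)), ?_⟩
          invFun := fun u => ⟨Additive.ofMul (β.symm (Additive.toMul u.1)), ?_⟩
          left_inv := fun u => Subtype.ext (β.symm_apply_apply _)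
          right_inv := fun u => Subtype.ext (β.apply_symm_apply _) }
      · obtain ⟨g, hg⟩ := u.2
        refine ⟨⟨_, h1 g g.2⟩, ?_⟩
        rw [← hg]
        show (β * (g : MulAut (T : Subgroup G)) * β⁻¹) (Additive.toMul w) = β (g.1 (Additive.toMul v))
        rw [← hβ, MulAut.mul_apply, MulAut.mul_apply, MulAut.inv_def, MulEquiv.symm_apply_apply]
      · obtain ⟨g, hg⟩ := u.2
        refine ⟨⟨_, h2 g g.2⟩, ?_⟩
        rw [← hg]
        show (β⁻¹ * (g : MulAut (T : Subgroup G)) * β) (Additive.toMul v) = β.symm (g.1 (Additive.toMul w))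
        rw [MulAut.mul_apply, MulAut.mul_apply, hβ, MulAut.inv_def]) with
    ⟨hcyc, hfree⟩ | ⟨-, m, hm, -⟩ | ⟨hV, -⟩ | ⟨-, hq3, -⟩
  · refine ⟨?_, fun l hl t ht hlt => congrArg Subtype.val
      (hfree (Additive.ofMul t) ht ⟨l, hl⟩ (congrArg Additive.ofMul hlt))⟩
    rcases hcyc with hc | ⟨n, ⟨e⟩⟩
    · obtain ⟨g, hg⟩ := IsCyclic.exists_ofOrder_eq_natCard (α := X)
      rw [← hg, ← Subgroup.orderOf_coe]
      refine (hexp g g.2).resolve_left fun e => ?_
      rw [Subgroup.orderOf_coe, hg] at e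
      exact hX1 (Subgroup.card_eq_one.1 e)
    · exfalso
      rcases Nat.eq_zero_or_pos n with rfl | hn
      · haveI : Finite (QuaternionGroup 0) := Finite.of_equiv X e.toEquiv
        have hinj : Function.Injective (fun z : ℤ => (QuaternionGroup.a (show ℤ from z) : QuaternionGroup 0)) :=
          fun a b e => QuaternionGroup.a.inj e
        haveI := Finite.of_injective _ hinj
        exact not_finite ℤ
      · haveI : NeZero n := ⟨hn.ne'⟩
        rw [Nat.card_congr e.toEquiv, Nat.card_eq_fintype_card, QuaternionGroup.card] at hodd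
        exact Nat.not_even_iff_odd.2 hodd ⟨2 * n, by ring⟩
  · exfalso
    rcases m with _ | _ | m
    · norm_num at hm
    · norm_num at hm
    · have : 4 ≤ 2 ^ (m + 2) := Nat.le_of_dvd (Nat.two_pow_pos _) (Dvd.intro_left (2 ^ m) (by ring))
      omega
  · exact absurd (hcard ▸ hV) (by simpa using h4)
  · omega

end Cfsg.Agent.Transfer.FiveOrbits
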