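import Mathlib
import Cfsg.Agent.Lib.Transfer.FiveOrbits.Structure

/-!
The case where some non-trivial element of `L` fixes a non-trivial element of `T`: `L` has order `p q`.
-/

set_option autoImplicit false
set_option linter.style.haveILetI false
set_option maxHeartbeats 800000

open scoped Pointwise

universe u

namespace Cfsg.Agent.Transfer.FiveOrbits

open Subgroup

variable {G : Type u} [Group G] [Finite G] {p q : ℕ}

/-- `L` acts semiregularly on `T`. -/
def SemiReg (T : Sylow 2 G) : Prop :=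
  ∀ l ∈ autL T, ∀ t : (T : Subgroup G), t ≠ 1 → l t = t → l = 1

/-- The stabiliser of `t` in `L`. -/
def stabL (T : Sylow 2 G) (t : (T : Subgroup G)) : Subgroup (MulAut (T : Subgroup G)) where
  carrier := {l | l ∈ autL T ∧ l t = t}
  one_mem' := ⟨one_mem _, rfl⟩
  mul_mem' {a b} ha hb := ⟨mul_mem ha.1 hb.1, by rw [MulAut.mul_apply, hb.2, ha.2]⟩
  inv_mem' {a} ha := ⟨inv_mem ha.1, a.injective (by rw [MulAut.inv_def, MulEquiv.apply_symm_apply, ha.2])⟩

/-- The shape of `L` outside the semiregular case. -/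
structure NonSemi (T : Sylow 2 G) (p q c : ℕ) : Prop where
  two_le : 2 ≤ c
  card_L : Nat.card (autL T) = p * q
  pq : p < q
  count : Nat.card (T : Subgroup G) = q * (c - 1) + 1
  sq : c * c ≤ Nat.card (T : Subgroup G)
  stab : ∀ t : (T : Subgroup G), t ≠ 1 → Nat.card (stabL T t) = p
  fix : ∀ l ∈ autL T, orderOf l = p → Nat.card (fx l) = c
  norm : ∃ X : Subgroup (MulAut (T : Subgroup G)), X ≤ autL T ∧ Nat.card X = q ∧
    (∀ l ∈ autL T, ∀ x ∈ X, l * x * l⁻¹ ∈ X) ∧ (∀ l ∈ autL T, orderOf l = q → l ∈ X)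

theorem fx_pow {T : Subgroup G} {l : MulAut T} {s : T} (hs : l s = s) : ∀ k : ℕ, (l ^ k) s = s
  | 0 => by rw [pow_zero]; rfl
  | k + 1 => by rw [pow_succ, MulAut.mul_apply, hs, fx_pow hs k]

theorem fx_le_zpowers {T : Subgroup G} [Finite T] {l m : MulAut T} (hm : m ∈ zpowers l) : fx l ≤ fx m := by
  intro s hs
  haveI : Finite (MulAut T) := Finite.of_injective (fun e => (e : T → T)) DFunLike.coe_injective
  obtain ⟨k, rfl⟩ := (mem_powers_iff_mem_zpowers (x := l)).2 hm
  exact fx_pow hs k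

theorem card_fx_conj {T : Subgroup G} (l x : MulAut T) : Nat.card (fx (x * l * x⁻¹)) = Nat.card (fx l) := by
  refine Nat.card_congr
    { toFun := fun s => ⟨x.symm s.1, ?_⟩
      invFun := fun s => ⟨x s.1, ?_⟩
      left_inv := fun s => Subtype.ext (x.apply_symm_apply _)
      right_inv := fun s => Subtype.ext (x.symm_apply_apply _) }
  · have h : x (l (x.symm s.1)) = s.1 := s.2
    rw [mem_fx]
    apply x.injective
    rw [h, x.apply_symm_apply]
  · have h := s.2
    rw [mem_fx] at h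
    rw [mem_fx, MulAut.mul_apply, MulAut.mul_apply, MulAut.inv_def, x.symm_apply_apply, h]

theorem Hyp.exists_nonSemi (h : Hyp G p q) (T : Sylow 2 G) (hns : ¬ SemiReg T) :
    ∃ c : ℕ, NonSemi T p q c := by
  classical
  haveI := Fact.mk Nat.prime_two
  haveI := Fact.mk h.hp
  haveI : Finite (MulAut (T : Subgroup G)) :=
    Finite.of_injective _ (DFunLike.coe_injective (F := MulAut (T : Subgroup G)))
  obtain ⟨l₀, hl₀, t₀, ht₀, hlt₀, hl₀1⟩ : ∃ l ∈ autL T, ∃ t : (T : Subgroup G), t ≠ 1 ∧ l t = t ∧ l ≠ 1 := by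
    simpa only [SemiReg, not_forall, exists_prop] using hns
  have hl₀p : orderOf l₀ = p :=
    (h.fixed_orderOf T hl₀ ht₀ hlt₀).resolve_left fun e => hl₀1 (orderOf_eq_one_iff.1 e)
  have h4 : Nat.card (T : Subgroup G) ≠ 4 := fun e => hl₀1 (h.semiregular_four T e hl₀ ht₀ hlt₀)
  set L := autL T with hL
  have hord : ∀ y : L, orderOf y = 1 ∨ orderOf y = p ∨ orderOf y = q := fun y => by
    rw [← Subgroup.orderOf_coe]; exact h.autL_orderOf T y.2
  haveI : Group.IsSolvable L := isSolvable_of_two_primes h.hp h.hq fun s hs hd => by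
    haveI := Fact.mk hs
    obtain ⟨y, hy⟩ := exists_prime_orderOf_dvd_card' s hd
    rcases hord y with e | e | e <;> rw [hy] at e
    · exact absurd e hs.ne_one
    · exact Or.inl e
    · exact Or.inr e
  obtain ⟨r, hr, hrd, hr1⟩ := ThreeSizes.exists_pCore_ne_bot (W := L)
    (fun e => h.autL_ne_bot T (Subgroup.card_eq_one.1 e))
  haveI := Fact.mk hr
  haveI hX0n : (Cfsg.pCore r L).Normal := Grp.pCore_isNormal
  set X₀ := Cfsg.pCore r L with hX₀
  have hX₀p : IsPGroup r X₀ := Grp.pCore_isPGroup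
  set X := X₀.map L.subtype with hXdef
  have hXL : X ≤ L := map_subtype_le _
  have hXp : IsPGroup r X := hX₀p.map _
  have hXcard : Nat.card X = Nat.card X₀ := Subgroup.card_map_of_injective L.subtype_injective
  have hexp : ∀ l ∈ X, orderOf l = 1 ∨ orderOf l = r := by
    intro l hl
    obtain ⟨k, hk⟩ := IsPGroup.iff_orderOf.1 hXp ⟨l, hl⟩
    rw [orderOf_mk] at hk
    rcases h.autL_orderOf T (hXL hl) with e | e | e
    · exact Or.inl e
    all_goals
      refine Or.inr (e.trans ?_)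
      have hd : _ ∣ r ^ k := (e.symm.trans hk).dvd
      first
        | exact (Nat.prime_dvd_prime_iff_eq h.hp hr).1 (h.hp.dvd_of_dvd_pow hd)
        | exact (Nat.prime_dvd_prime_iff_eq h.hq hr).1 (h.hq.dvd_of_dvd_pow hd)
  have hXodd : Odd (Nat.card X) := (h.autL_odd T).of_dvd_nat (Subgroup.card_dvd_of_le hXL)
  have hnormX : ∀ β : MulAut (T : Subgroup G), (∀ l, l ∈ L → β * l * β⁻¹ ∈ L) →
      (∀ l ∈ X, β * l * β⁻¹ ∈ X) ∧ (∀ l ∈ X, β⁻¹ * l * β ∈ X) := by
    intro β hβ
    have hLmap : L.map (MulAut.conj β).toMonoidHom = L :=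
      Subgroup.eq_of_le_of_card_ge (by rintro _ ⟨l, hl, rfl⟩; exact hβ l hl)
        (le_of_eq (Subgroup.card_map_of_injective (MulAut.conj β).injective).symm)
    let e : L ≃* L := ((MulAut.conj β).subgroupMap L).trans (MulEquiv.subgroupCongr hLmap)
    have he : ∀ y : L, ((e y : L) : MulAut (T : Subgroup G)) = β * y * β⁻¹ := fun y => rfl
    constructor
    · rintro _ ⟨y, hy, rfl⟩
      exact ⟨e y, Invol.pCore_map_le_of_mulEquiv e ⟨y, hy, rfl⟩, he y⟩
    · rintro _ ⟨y, hy, rfl⟩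
      refine ⟨e.symm y, Invol.pCore_map_le_of_mulEquiv e.symm ⟨y, hy, rfl⟩, ?_⟩
      have h1 := he (e.symm y)
      rw [e.apply_symm_apply] at h1
      show ((e.symm y : L) : MulAut (T : Subgroup G)) = β⁻¹ * (y : MulAut (T : Subgroup G)) * β
      rw [h1]; group
  obtain ⟨hXr, hXsemi⟩ := h.semiregular_pgroup T h4 hr X hXp
    (fun e => hr1 ((map_eq_bot_iff_of_injective _ L.subtype_injective).1 e)) hexp hXodd
    fun v w hv hw => by
      obtain ⟨β, hβ, hn⟩ := h.trans_norm T hv hw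
      exact ⟨β, hβ, hnormX β hn⟩
  have hXn : ∀ l ∈ L, ∀ x ∈ X, l * x * l⁻¹ ∈ X := fun l hl =>
    (hnormX l fun m hm => mul_mem (mul_mem hl hm) (inv_mem hl)).1
  have hX₀r : Nat.card X₀ = r := hXcard.symm.trans hXr
  -- `X₀` is its own centraliser
  have hcen : centralizer (X₀ : Set L) ≤ X₀ := by
    haveI : (centralizer (X₀ : Set L)).Normal := inferInstance
    refine Grp.le_pCore (p := r) inferInstance fun y => ?_
    by_cases hy : (y : L) = 1
    · exact ⟨0, by rw [pow_zero, pow_one]; exact Subtype.ext hy⟩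
    refine ⟨1, Subtype.ext ?_⟩
    show (y : L) ^ r ^ 1 = 1
    rw [pow_one]
    obtain ⟨x, hx, hx1⟩ := (Subgroup.bot_or_exists_ne_one X₀).resolve_left hr1
    have hxo : orderOf x = r := by
      have := Subgroup.orderOf_dvd_natCard X₀ hx
      rw [hX₀r] at this
      exact (hr.eq_one_or_self_of_dvd _ this).resolve_left fun e => hx1 (orderOf_eq_one_iff.1 e)
    have hc : Commute x (y : L) := (mem_centralizer_iff.1 y.2 x hx : x * (y : L) = y * x)
    have hyo := hord (y : L)
    have hyne : orderOf (y : L) ≠ 1 := fun e => hy (orderOf_eq_one_iff.1 e)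
    by_contra hcon
    have hner : orderOf (y : L) ≠ r := fun e => hcon (by rw [← e, pow_orderOf_eq_one])
    have hyp : (orderOf (y : L)).Prime := by
      rcases hyo with e | e | e
      · exact absurd e hyne
      · rw [e]; exact h.hp
      · rw [e]; exact h.hq
    have hmul := hc.orderOf_mul_eq_mul_orderOf_of_coprime
      (by rw [hxo]; exact (Nat.coprime_primes hr hyp).2 hner.symm)
    rw [hxo] at hmul
    have h3 := hord (x * (y : L))
    rw [hmul] at h3
    have hnp := Nat.not_prime_mul hr.ne_one hyp.ne_one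
    rcases h3 with e | e | e
    · exact hr.ne_one (Nat.eq_one_of_mul_eq_one_right e)
    · exact hnp (e ▸ h.hp)
    · exact hnp (e ▸ h.hq)
  -- the action of `L` on `X₀`
  set ψ : L →* MulAut X₀ := MulAut.conjNormal with hψ
  have hker : ψ.ker = X₀ := by
    have hle : ψ.ker ≤ X₀ := fun y hy => hcen (mem_centralizer_iff.2 fun z hz => by
      have := DFunLike.congr_fun (MonoidHom.mem_ker.1 hy) (⟨z, hz⟩ : X₀)
      have h2 := congrArg Subtype.val this
      rw [hψ, MulAut.conjNormal_apply] at h2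
      exact (mul_inv_eq_iff_eq_mul.1 h2).symm)
    refine le_antisymm hle fun y hy => MonoidHom.mem_ker.2 (MulEquiv.ext fun z => Subtype.ext ?_)
    haveI : IsCyclic X₀ := isCyclic_of_prime_card hX₀r
    letI : CommGroup X₀ := IsCyclic.commGroup
    have hc2 := congrArg Subtype.val (mul_comm (⟨y, hy⟩ : X₀) z)
    rw [hψ, MulAut.conjNormal_apply, MulAut.one_apply, mul_inv_eq_iff_eq_mul]
    exact hc2
  haveI : IsCyclic X₀ := isCyclic_of_prime_card hX₀r
  haveI : IsCyclic (MulAut X₀) := by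
    haveI : IsCyclic (ZMod (Nat.card X₀))ˣ := by rw [hX₀r]; infer_instance
    exact isCyclic_of_surjective (IsCyclic.mulAutMulEquiv X₀).symm.toMonoidHom (MulEquiv.surjective _)
  have hrange : Nat.card ψ.range ∣ r - 1 := by
    refine (Subgroup.card_subgroup_dvd_card _).trans ?_
    rw [IsCyclic.card_mulAut, hX₀r, Nat.totient_prime hr]
  have hcardL : Nat.card L = Nat.card ψ.range * r := by
    rw [Subgroup.card_eq_card_quotient_mul_card_subgroup ψ.ker,
      Nat.card_congr (QuotientGroup.quotientKerEquivRange ψ).toEquiv, hker, hX₀r]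
  have hl₀X : (⟨l₀, hl₀⟩ : L) ∉ X₀ := fun hm => hl₀1 (hXsemi l₀ ⟨_, hm, rfl⟩ t₀ ht₀ hlt₀)
  have hψl₀ : orderOf (ψ ⟨l₀, hl₀⟩) = p := by
    have hd : orderOf (ψ ⟨l₀, hl₀⟩) ∣ p := by
      rw [← hl₀p, ← Subgroup.orderOf_mk l₀ hl₀]; exact orderOf_map_dvd _ _
    exact (h.hp.eq_one_or_self_of_dvd _ hd).resolve_left fun e =>
      hl₀X (hker ▸ MonoidHom.mem_ker.2 (orderOf_eq_one_iff.1 e))
  have hRp : Nat.card ψ.range = p := by
    obtain ⟨y, hy⟩ := IsCyclic.exists_ofOrder_eq_natCard (α := ψ.range)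
    obtain ⟨x, hx⟩ := y.2
    have hd : Nat.card ψ.range ∣ orderOf x := by
      rw [← hy, ← Subgroup.orderOf_coe, ← hx]; exact orderOf_map_dvd _ _
    have hd2 : p ∣ Nat.card ψ.range := by
      rw [← hψl₀]; exact Subgroup.orderOf_dvd_natCard _ ⟨_, rfl⟩
    rcases hord x with e | e | e <;> rw [e] at hd
    · exact absurd (Nat.dvd_one.1 (hd2.trans hd)) h.hp.ne_one
    · exact Nat.dvd_antisymm hd hd2
    · exact absurd ((Nat.prime_dvd_prime_iff_eq h.hp h.hq).1 (hd2.trans hd)) h.hpq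
  have hpr : p ∣ r - 1 := hRp ▸ hrange
  have hrlt : p < r := by
    have := Nat.le_of_dvd (by have := hr.two_le; omega) hpr
    have := h.p_ge
    omega
  have hrq : r = q := by
    obtain ⟨x, hx⟩ := exists_prime_orderOf_dvd_card' (G := L) r (hcardL ▸ dvd_mul_left r _)
    rcases hord x with e | e | e <;> rw [hx] at e
    · exact absurd e hr.ne_one
    · omega
    · exact e
  subst hrq
  have hcardL' : Nat.card L = p * r := by rw [hcardL, hRp]
  have hqX : ∀ l ∈ L, orderOf l = r → l ∈ X := by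
    intro l hl ho
    refine ⟨⟨l, hl⟩, ?_, rfl⟩
    show (⟨l, hl⟩ : L) ∈ X₀
    rw [← hker, MonoidHom.mem_ker, ← orderOf_eq_one_iff]
    have h1 : orderOf (ψ ⟨l, hl⟩) ∣ r := by
      rw [← ho, ← Subgroup.orderOf_mk l hl]; exact orderOf_map_dvd _ _
    have h2 : orderOf (ψ ⟨l, hl⟩) ∣ p := hRp ▸ Subgroup.orderOf_dvd_natCard _ ⟨_, rfl⟩
    exact Nat.dvd_one.1 ((Nat.coprime_primes h.hp hr).2 h.hpq ▸ Nat.dvd_gcd h2 h1)
  -- stabilisers have order `p`
  have hst : ∀ t : (T : Subgroup G), t ≠ 1 → Nat.card (stabL T t) = p := by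
    intro t ht
    have hdisj : ∀ l ∈ stabL T t, l ∈ X → l = 1 := fun l hl hx => hXsemi l hx t ht hl.2
    let f : stabL T t →* MulAut X₀ := ψ.comp (Subgroup.inclusion (fun l hl => hl.1 : stabL T t ≤ L))
    have hf : Function.Injective f := (injective_iff_map_eq_one f).2 fun l hl => by
      have hm : (⟨l.1, l.2.1⟩ : L) ∈ X₀ := hker ▸ MonoidHom.mem_ker.2 hl
      exact Subtype.ext (hdisj l l.2 ⟨_, hm, rfl⟩)
    have h1 : Nat.card (stabL T t) ∣ p := by
      rw [← hRp]
      refine Subgroup.card_dvd_of_injective (f.codRestrict ψ.range fun l => ⟨_, rfl⟩) fun a b e =>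
        hf (Subtype.ext_iff.1 e)
    refine (h.hp.eq_one_or_self_of_dvd _ h1).resolve_left fun e => ?_
    obtain ⟨β, hβ, hn⟩ := h.trans_norm T ht₀ ht
    have hm : β * l₀ * β⁻¹ ∈ stabL T t := ⟨hn l₀ hl₀, by
      rw [← hβ, MulAut.mul_apply, MulAut.mul_apply, MulAut.inv_def, MulEquiv.symm_apply_apply, hlt₀]⟩
    have : β * l₀ * β⁻¹ = 1 := by
      have hb : stabL T t = ⊥ := Subgroup.card_eq_one.1 e
      rwa [hb, mem_bot] at hm
    exact hl₀1 (conj_eq_one_iff.1 this)
  -- the fixed subgroups of the elements of order `p`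
  have hfix : ∀ l ∈ L, orderOf l = p → Nat.card (fx l) = Nat.card (fx l₀) := by
    intro l hl ho
    let mk : ∀ a : MulAut (T : Subgroup G), ∀ ha : a ∈ L, orderOf a = p → Sylow p L := fun a ha hao =>
      Sylow.ofCard (zpowers (⟨a, ha⟩ : L)) (by
        rw [Nat.card_zpowers, Subgroup.orderOf_mk, hao, hcardL']
        rw [Nat.factorization_mul h.hp.ne_zero hr.ne_zero, Finsupp.add_apply, h.hp.factorization_self,
          Nat.factorization_eq_zero_of_not_dvd
            (fun hd => h.hpq ((Nat.prime_dvd_prime_iff_eq h.hp hr).1 hd)), add_zero, pow_one])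
    obtain ⟨y, hy⟩ := MulAction.exists_smul_eq L (mk l₀ hl₀ hl₀p) (mk l hl ho)
    have hy' : ((y • mk l₀ hl₀ hl₀p : Sylow p L) : Subgroup L) = zpowers (⟨l, hl⟩ : L) := by
      rw [hy]; rfl
    rw [Sylow.coe_subgroup_smul] at hy'
    have hm : y * ⟨l₀, hl₀⟩ * y⁻¹ ∈ zpowers (⟨l, hl⟩ : L) := by
      rw [← hy']; exact ⟨⟨l₀, hl₀⟩, mem_zpowers _, rfl⟩
    have hm' : (y : MulAut (T : Subgroup G)) * l₀ * (y : MulAut (T : Subgroup G))⁻¹ ∈ zpowers l := by
      obtain ⟨i, hi⟩ := hm
      exact ⟨i, congrArg Subtype.val hi⟩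
    set m := (y : MulAut (T : Subgroup G)) * l₀ * (y : MulAut (T : Subgroup G))⁻¹ with hmdef
    have hmo : orderOf m = p := by
      rw [hmdef, ← hl₀p]
      exact (MulAut.conj (y : MulAut (T : Subgroup G))).orderOf_eq l₀
    have hz : zpowers m = zpowers l := Subgroup.eq_of_le_of_card_ge (zpowers_le.2 hm')
      (by rw [Nat.card_zpowers, Nat.card_zpowers, ho, hmo])
    rw [← card_fx_conj l₀ (y : MulAut (T : Subgroup G)), ← hmdef]
    congr 2
    have he : fx l = fx m := le_antisymm (fx_le_zpowers hm') (fx_le_zpowers (hz.symm ▸ mem_zpowers l))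
    rw [he]
  set c := Nat.card (fx l₀) with hc
  have hc2 : 2 ≤ c := by
    have : (⊥ : Subgroup (T : Subgroup G)) < fx l₀ := bot_lt_iff_ne_bot.2 fun e => ht₀ (by
      have hm : t₀ ∈ fx l₀ := hlt₀
      rwa [e, mem_bot] at hm)
    exact (Subgroup.one_lt_card_iff_ne_bot _).2 (ne_of_gt this)
  -- counting
  haveI := Fintype.ofFinite (T : Subgroup G)
  haveI := Fintype.ofFinite (MulAut (T : Subgroup G))
  let P := {l : MulAut (T : Subgroup G) // l ∈ L ∧ orderOf l = p}
  have hP : Nat.card P + r = p * r := by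
    have e1 : Nat.card L = Nat.card P + Nat.card X := by
      rw [← Nat.card_sum]
      refine (Nat.card_eq_of_bijective (Sum.elim (fun a : P => (⟨a.1, a.2.1⟩ : L))
        (fun x : X => ⟨x.1, hXL x.2⟩)) ⟨?_, ?_⟩).symm
      · refine Function.Injective.sumElim (fun a b e => Subtype.ext (Subtype.ext_iff.1 e :))
          (fun a b e => Subtype.ext (Subtype.ext_iff.1 e :)) fun a b e => ?_
        have e' : a.1 = b.1 := (Subtype.ext_iff.1 e :)
        have h1 := hexp b.1 b.2
        rw [← e', a.2.2] at h1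
        rcases h1 with e2 | e2
        · exact h.hp.ne_one e2
        · exact h.hpq e2
      · rintro ⟨l, hl⟩
        rcases h.autL_orderOf T hl with e | e | e
        · exact ⟨Sum.inr ⟨l, by rw [orderOf_eq_one_iff.1 e]; exact one_mem _⟩, rfl⟩
        · exact ⟨Sum.inl ⟨l, hl, e⟩, rfl⟩
        · exact ⟨Sum.inr ⟨l, hqX l hl e⟩, rfl⟩
    rw [hcardL', hXr] at e1
    exact e1.symm
  have hcount : Nat.card P * (c - 1) = (Nat.card (T : Subgroup G) - 1) * (p - 1) := by
    let e : (Σ l : P, {s : fx l.1 // s ≠ 1}) ≃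
        (Σ t : {t : (T : Subgroup G) // t ≠ 1}, {l : stabL T t.1 // l ≠ 1}) :=
      { toFun := fun a => ⟨⟨a.2.1.1, fun e => a.2.2 (Subtype.ext e)⟩, ⟨⟨a.1.1, a.1.2.1, a.2.1.2⟩, fun e => by
          have := a.1.2.2
          rw [show a.1.1 = 1 from congrArg Subtype.val e, orderOf_one] at this
          exact h.hp.ne_one this.symm⟩⟩
        invFun := fun a => ⟨⟨a.2.1.1, a.2.1.2.1,
            (h.fixed_orderOf T a.2.1.2.1 a.1.2 a.2.1.2.2).resolve_left fun e =>
              a.2.2 (Subtype.ext (orderOf_eq_one_iff.1 e))⟩,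
          ⟨⟨a.1.1, a.2.1.2.2⟩, fun e => a.1.2 (congrArg Subtype.val e)⟩⟩
        left_inv := fun _ => rfl
        right_inv := fun _ => rfl }
    have h2 := Nat.card_congr e
    have l1 : ∀ l : P, Nat.card {s : fx l.1 // s ≠ 1} = c - 1 := fun l => by
      rw [Nat.card_eq_fintype_card, Fintype.card_subtype_compl, Fintype.card_subtype_eq,
        ← Nat.card_eq_fintype_card, hfix l.1 l.2.1 l.2.2]
    have r1 : ∀ t : {t : (T : Subgroup G) // t ≠ 1}, Nat.card {l : stabL T t.1 // l ≠ 1} = p - 1 := fun t => by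
      rw [Nat.card_eq_fintype_card, Fintype.card_subtype_compl, Fintype.card_subtype_eq,
        ← Nat.card_eq_fintype_card, hst t.1 t.2]
    rw [Nat.card_sigma, Nat.card_sigma, Finset.sum_congr rfl (fun l _ => l1 l),
      Finset.sum_congr rfl (fun t _ => r1 t), Finset.sum_const, Finset.sum_const, smul_eq_mul, smul_eq_mul,
      Finset.card_univ, Finset.card_univ, ← Nat.card_eq_fintype_card] at h2
    rw [h2, Fintype.card_subtype_compl, Fintype.card_subtype_eq, ← Nat.card_eq_fintype_card]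
  refine ⟨c, hc2, hcardL', hrlt, ?_, ?_, hst, hfix, X, hXL, hXr, hXn, hqX⟩
  · have hp1 : 0 < p - 1 := by have := h.p_ge; omega
    have hT := h.four_le T
    have h5 : Nat.card P = (p - 1) * r := by rw [Nat.sub_mul, one_mul]; omega
    rw [h5] at hcount
    have h6 : r * (c - 1) = Nat.card (T : Subgroup G) - 1 :=
      Nat.eq_of_mul_eq_mul_left hp1 (by rw [← mul_assoc, hcount, mul_comm])
    omega
  · -- two different fixed subgroups meet trivially
    obtain ⟨l, hl, ho, hne⟩ : ∃ l ∈ L, orderOf l = p ∧ l ∉ zpowers l₀ := by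
      by_contra hall
      push Not at hall
      have hle : Nat.card P ≤ Nat.card (zpowers l₀) := Nat.card_le_card_of_injective
        (fun a => (⟨a.1, hall a.1 a.2.1 a.2.2⟩ : zpowers l₀))
        fun a b e => Subtype.ext (Subtype.ext_iff.1 e :)
      rw [Nat.card_zpowers, hl₀p] at hle
      have := h.p_ge
      nlinarith
    have hinf : ∀ s : (T : Subgroup G), l₀ s = s → l s = s → s = 1 := by
      intro s h1 h2
      by_contra hs
      apply hne
      have hle : zpowers l₀ ≤ stabL T s := zpowers_le.2 ⟨hl₀, h1⟩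
      have : zpowers l₀ = stabL T s := Subgroup.eq_of_le_of_card_ge hle (by
        rw [hst s hs, Nat.card_zpowers, hl₀p])
      rw [this]; exact ⟨hl, h2⟩
    rw [show c * c = Nat.card (fx l₀) * Nat.card (fx l) by rw [hfix l hl ho], ← Nat.card_prod]
    refine Nat.card_le_card_of_injective (fun a => a.1.1 * a.2.1) ?_
    rintro ⟨a, b⟩ ⟨a', b'⟩ (e : a.1 * b.1 = a'.1 * b'.1)
    have e2 : a'.1⁻¹ * a.1 = b'.1 * b.1⁻¹ := by
      rw [inv_mul_eq_iff_eq_mul, ← mul_assoc, eq_mul_inv_iff_mul_eq, e]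
    have h1 : a'.1⁻¹ * a.1 = 1 := hinf _ ((fx l₀).mul_mem ((fx l₀).inv_mem a'.2) a.2)
      (e2 ▸ (fx l).mul_mem b'.2 ((fx l).inv_mem b.2))
    have h2 : b'.1 * b.1⁻¹ = 1 := e2 ▸ h1
    exact Prod.ext (Subtype.ext (inv_mul_eq_one.1 h1).symm) (Subtype.ext (mul_inv_eq_one.1 h2).symm)

end Cfsg.Agent.Transfer.FiveOrbits
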