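import Mathlib
import Cfsg.Agent.Lib.Transfer.FiveOrbits.NonSemi
import Cfsg.Agent.Lib.Grp.CoprimeAbelian
import Cfsg.Agent.S0223
import Cfsg.Agent.S1225

/-!
The element orders `1, 2, p, q, 2p` do not occur with one orbit for each order.
-/

set_option autoImplicit false
set_option linter.style.haveILetI false
set_option maxHeartbeats 800000

open scoped Pointwise

universe u

namespace Cfsg.Agent.Transfer.FiveOrbits

open Subgroup

variable {G : Type u} [Group G] [Finite G] {p q : ℕ}

theorem Hyp.orderOf_qmem (h : Hyp G p q) [Fact q.Prime] (P : Sylow q G) {z : G} (hz : z ∈ (P : Subgroup G))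
    (h1 : z ≠ 1) : orderOf z = q := by
  obtain ⟨k, hk⟩ := IsPGroup.iff_orderOf.1 P.isPGroup' ⟨z, hz⟩
  rw [orderOf_mk] at hk
  rcases h.ord_dvd z with hd | hd
  · exfalso
    have hco : (orderOf z).Coprime (2 * p) := hk ▸ Nat.Coprime.pow_left k (Nat.Coprime.mul_right
      ((Nat.coprime_primes h.hq Nat.prime_two).2 h.hq2) ((Nat.coprime_primes h.hq h.hp).2 h.hpq.symm))
    exact h1 (orderOf_eq_one_iff.1 (Nat.eq_one_of_dvd_coprimes hco dvd_rfl hd))
  · exact hd

theorem Hyp.cen_q_isPGroup (h : Hyp G p q) [Fact q.Prime] {z : G} (hz : orderOf z = q) :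
    IsPGroup q (centralizer ({z} : Set G)) := by
  intro x
  refine ⟨1, Subtype.ext ?_⟩
  show (x : G) ^ q ^ 1 = 1
  rw [pow_one]
  have hc := cen_comm x.2
  rcases h.ord (x : G) with e | e | e | e | e
  · rw [orderOf_eq_one_iff.1 e, one_pow]
  · exact absurd hc (h.not_comm (Or.inl e) hz)
  · exact absurd hc (h.not_comm (Or.inr e) hz)
  · rw [← e, pow_orderOf_eq_one]
  · refine absurd (hc.pow_left p) (h.not_comm (Or.inl ?_) hz)
    rw [orderOf_pow_of_dvd h.hp.ne_zero (e ▸ dvd_mul_left p 2), e, Nat.mul_div_cancel _ h.hp.pos]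

theorem Hyp.q_dvd (h : Hyp G p q) : q ∣ Nat.card G := by
  obtain ⟨g, hg⟩ := h.exq
  exact hg ▸ orderOf_dvd_natCard g

theorem Hyp.cen_q_sylow (h : Hyp G p q) [Fact q.Prime] {z : G} (hz : orderOf z = q) :
    ∃ P : Sylow q G, centralizer ({z} : Set G) = (P : Subgroup G) := by
  obtain ⟨P₀⟩ := (inferInstance : Nonempty (Sylow q G))
  haveI : Nontrivial (P₀ : Subgroup G) :=
    (Subgroup.nontrivial_iff_ne_bot _).2 fun e => P₀.not_dvd_index (by rw [e, index_bot]; exact h.q_dvd)
  haveI := P₀.isPGroup'.center_nontrivial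
  obtain ⟨⟨z₀, hz₀c⟩, hz₀⟩ := exists_ne (1 : center (P₀ : Subgroup G))
  have hz₀1 : (z₀ : G) ≠ 1 := fun e => hz₀ (Subtype.ext (Subtype.ext e))
  have hord := h.orderOf_qmem P₀ z₀.2 hz₀1
  have hle : (P₀ : Subgroup G) ≤ centralizer ({(z₀ : G)} : Set G) := fun y hy =>
    mem_centralizer_singleton_iff.2 (congrArg Subtype.val (mem_center_iff.1 hz₀c ⟨y, hy⟩))
  have heq := P₀.is_maximal' (h.cen_q_isPGroup hord) hle
  obtain ⟨α, hα⟩ := h.orb _ _ (hord.trans hz.symm)
  have hf : Function.Surjective α.toMonoidHom := fun y => α.surjective y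
  refine ⟨P₀.mapSurjective hf, ?_⟩
  rw [Sylow.coe_mapSurjective, ← heq]
  ext y
  rw [Subgroup.mem_map]
  constructor
  · intro hy
    refine ⟨α.symm y, ?_, α.apply_symm_apply y⟩
    have e := congrArg α.symm (mem_centralizer_singleton_iff.1 hy)
    rw [← hα] at e
    simp only [map_mul, MulEquiv.symm_apply_apply] at e
    exact mem_centralizer_singleton_iff.2 e
  · rintro ⟨x, hx, rfl⟩
    rw [← hα]
    exact mem_centralizer_singleton_iff.2
      ((map_mul α _ _).symm.trans ((congrArg α (mem_centralizer_singleton_iff.1 hx)).trans (map_mul α _ _)))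

/-- The order of the centre of a Sylow `q`-subgroup. -/
noncomputable def zc (Q : Subgroup G) : ℕ := Nat.card (center Q)

theorem zc_le (Q : Subgroup G) : zc Q ≤ Nat.card Q :=
  Nat.card_le_card_of_injective _ Subtype.val_injective

theorem Hyp.cnt_q (h : Hyp G p q) [Fact q.Prime] (Q : Sylow q G) :
    cnt G q * Nat.card (nor (Q : Subgroup G)) = Nat.card G * (zc (Q : Subgroup G) - 1) := by
  classical
  haveI := Fintype.ofFinite G
  haveI := Fintype.ofFinite (Sylow q G)
  choose Pz hPz using fun z : {z : G // orderOf z = q} => h.cen_q_sylow z.2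
  have hmem : ∀ z : {z : G // orderOf z = q}, z.1 ∈ ((Pz z : Sylow q G) : Subgroup G) := fun z =>
    hPz z ▸ mem_centralizer_singleton_iff.2 rfl
  have hcent : ∀ z : {z : G // orderOf z = q},
      (⟨z.1, hmem z⟩ : ((Pz z : Sylow q G) : Subgroup G)) ∈ center ((Pz z : Sylow q G) : Subgroup G) :=
    fun z => mem_center_iff.2 fun y => Subtype.ext
      (mem_centralizer_singleton_iff.1 ((SetLike.ext_iff.1 (hPz z) (y : G)).2 y.2))
  have e : Nat.card {z : G // orderOf z = q} =
      Nat.card (Σ P : Sylow q G, {w : center (P : Subgroup G) // w ≠ 1}) := by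
    refine Nat.card_eq_of_bijective (fun z => ⟨Pz z, ⟨⟨⟨z.1, hmem z⟩, hcent z⟩, fun e => ?_⟩⟩) ⟨?_, ?_⟩
    · have hz := z.2
      rw [show z.1 = 1 from congrArg (fun w : center ((Pz z : Sylow q G) : Subgroup G) => ((w : _) : G)) e,
        orderOf_one] at hz
      exact h.hq.ne_one hz.symm
    · intro a b e
      exact Subtype.ext (congrArg
        (fun w : Σ P : Sylow q G, {w : center (P : Subgroup G) // w ≠ 1} => ((w.2.1 : _) : G)) e)
    · rintro ⟨P, ⟨⟨w, hwP⟩, hwc⟩, hw1⟩
      have hwo : orderOf w = q := h.orderOf_qmem P hwP fun e => hw1 (Subtype.ext (Subtype.ext e))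
      refine ⟨⟨w, hwo⟩, ?_⟩
      have hP : Pz ⟨w, hwo⟩ = P := by
        refine (Sylow.ext (P.is_maximal' (Pz ⟨w, hwo⟩).isPGroup' ?_) :)
        intro y hy
        rw [← hPz ⟨w, hwo⟩]
        exact mem_centralizer_singleton_iff.2 (congrArg Subtype.val (mem_center_iff.1 hwc ⟨y, hy⟩))
      subst hP
      rfl
  have r1 : ∀ P : Sylow q G, Nat.card {w : center (P : Subgroup G) // w ≠ 1} = zc (Q : Subgroup G) - 1 := by
    intro P
    rw [Nat.card_eq_fintype_card, Fintype.card_subtype_compl, Fintype.card_subtype_eq,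
      ← Nat.card_eq_fintype_card, zc, Nat.card_congr (Subgroup.centerCongr (P.equiv Q)).toEquiv]
  have hn : Nat.card (Sylow q G) * Nat.card (nor (Q : Subgroup G)) = Nat.card G := by
    rw [Sylow.card_eq_index_normalizer Q]
    exact (nor (Q : Subgroup G)).index_mul_card
  rw [cnt, e, Nat.card_sigma, Finset.sum_congr rfl (fun P _ => r1 P), Finset.sum_const, smul_eq_mul,
    Finset.card_univ, ← Nat.card_eq_fintype_card, ← hn]
  ring

/-- The final count. -/
theorem Hyp.final (h : Hyp G p q) [Fact q.Prime] (Q : Sylow q G) (K : ℕ) (hK : 1 ≤ K)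
    (hN : K * zc (Q : Subgroup G) ≤ Nat.card (nor (Q : Subgroup G)))
    (hb : K * (cnt G 2 + cnt G (2 * p) + cnt G p) ≤ Nat.card G * (K - 1)) : False := by
  have hcq := h.cnt_q Q
  have hg := h.card_eq
  have hz1 : 1 ≤ zc (Q : Subgroup G) := Nat.card_pos
  set g := Nat.card G with hgdef
  set N := Nat.card (nor (Q : Subgroup G)) with hNdef
  set a := cnt G 2 + cnt G (2 * p) + cnt G p with ha
  set b := cnt G q with hb'
  set Z := zc (Q : Subgroup G) with hZ
  clear_value g N a b Z
  obtain ⟨z, rfl⟩ : ∃ z, Z = z + 1 := ⟨Z - 1, by omega⟩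
  obtain ⟨k, rfl⟩ : ∃ k, K = k + 1 := ⟨K - 1, by omega⟩
  simp only [Nat.add_sub_cancel] at hcq hb
  have hg' : g = 1 + a + b := by omega
  have hgN : g ≤ N := by
    have h1 : (k + 1) * N * g = (k + 1) * N + N * ((k + 1) * a) + (k + 1) * (b * N) := by
      rw [hg']; ring
    rw [hcq] at h1
    have h2 := Nat.mul_le_mul_left g hN
    have h3 := Nat.mul_le_mul_left N hb
    nlinarith
  have htop : nor (Q : Subgroup G) = ⊤ := Subgroup.eq_top_of_le_card _ (by rw [← hgdef, ← hNdef]; exact hgN)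
  haveI : (Q : Subgroup G).Normal := normalizer_eq_top_iff.1 htop
  rcases h.normal_eq (Q : Subgroup G) with e | e
  · exact Q.not_dvd_index (by rw [e, index_bot]; exact h.q_dvd)
  · exact h.not_top Q.isPGroup' e

theorem Hyp.two_zc_le (h : Hyp G p q) [Fact q.Prime] (Q : Sylow q G) :
    2 * zc (Q : Subgroup G) ≤ Nat.card (nor (Q : Subgroup G)) := by
  have h1 : zc (Q : Subgroup G) ∣ Nat.card (nor (Q : Subgroup G)) :=
    (Subgroup.card_subgroup_dvd_card _).trans (Subgroup.card_dvd_of_le le_normalizer)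
  obtain ⟨j, hj⟩ := h1
  have hN : 0 < Nat.card (nor (Q : Subgroup G)) := Nat.card_pos
  rcases j with _ | _ | j
  · omega
  · exfalso
    have hQN : (Q : Subgroup G) ≤ nor (Q : Subgroup G) := le_normalizer
    have hle := Nat.card_le_card_of_injective _ (Subgroup.inclusion_injective hQN)
    have hz := zc_le (Q : Subgroup G)
    have hQ : (Q : Subgroup G) = nor (Q : Subgroup G) := Subgroup.eq_of_le_of_card_ge hQN (by omega)
    have hc : center (Q : Subgroup G) = ⊤ := Subgroup.eq_top_of_le_card _ (by rw [zc] at hz hj; omega)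
    refine h.transfer_bot Q (fun e => Q.not_dvd_index (by rw [e, index_bot]; exact h.q_dvd)) ?_
    intro n hn
    have hn' : n ∈ (Q : Subgroup G) := hQ ▸ hn
    refine mem_centralizer_iff.2 fun y hy => ?_
    exact congrArg Subtype.val (mem_center_iff.1 (hc ▸ mem_top (⟨n, hn'⟩ : (Q : Subgroup G))) ⟨y, hy⟩)
  · rw [hj]; nlinarith

/-- A subgroup of order `q` of `N(T)` is normalised by an element of order `p`. -/
theorem Hyp.exists_normalizing (h : Hyp G p q) (T : Sylow 2 G) {c : ℕ} (S : NonSemi T p q c) {z : G}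
    (hzN : z ∈ nor (T : Subgroup G)) (hz : orderOf z = q) :
    ∃ x : G, orderOf x = p ∧ x * z * x⁻¹ ∈ zpowers z := by
  haveI := Fact.mk h.hq
  haveI := Fact.mk h.hp
  haveI : Finite (MulAut (T : Subgroup G)) :=
    Finite.of_injective _ (DFunLike.coe_injective (F := MulAut (T : Subgroup G)))
  obtain ⟨X, hXL, hXc, hXn, hqX⟩ := S.norm
  set ψ := (act T).rangeRestrict with hψ
  have hψs : Function.Surjective ψ := (act T).rangeRestrict_surjective
  set Y := (X.subgroupOf (autL T)).comap ψ with hY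
  haveI : (X.subgroupOf (autL T)).Normal := ⟨fun x hx l => hXn l l.2 x hx⟩
  haveI : Y.Normal := inferInstance
  set zN : nor (T : Subgroup G) := ⟨z, hzN⟩ with hzNdef
  have hzNo : orderOf zN = q := by rw [hzNdef, Subgroup.orderOf_mk, hz]
  have hzY : zN ∈ Y := by
    show act T zN ∈ X
    rcases h.autL_orderOf T ⟨zN, rfl⟩ with e | e | e
    · rw [orderOf_eq_one_iff.1 e]; exact one_mem _
    · have hd := orderOf_map_dvd (act T) zN
      rw [e, hzNo] at hd
      exact absurd ((Nat.prime_dvd_prime_iff_eq h.hp h.hq).1 hd) h.hpq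
    · exact hqX _ ⟨zN, rfl⟩ e
  have hcardY : Nat.card Y = q * Nat.card (act T).ker := by
    have h1 := Subgroup.card_eq_card_quotient_mul_card_subgroup ((act T).ker.subgroupOf Y)
    have hle : (act T).ker ≤ Y := fun n hn => by
      show act T n ∈ X; rw [MonoidHom.mem_ker.1 hn]; exact one_mem _
    rw [Nat.card_congr (Subgroup.subgroupOfEquivOfLe hle).toEquiv] at h1
    rw [h1]
    congr 1
    have h2 : ((act T).comp Y.subtype).ker = (act T).ker.subgroupOf Y := by ext; rfl
    have h3 : ((act T).comp Y.subtype).range = X := by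
      ext l
      constructor
      · rintro ⟨y, rfl⟩; exact y.2
      · intro hl
        obtain ⟨n, hn⟩ := hXL hl
        exact ⟨⟨n, show act T n ∈ X by rw [hn]; exact hl⟩, hn⟩
    rw [← h2, Nat.card_congr (QuotientGroup.quotientKerEquivRange ((act T).comp Y.subtype)).toEquiv, h3, hXc]
  have hkq : ¬ q ∣ Nat.card (act T).ker := by
    intro hd
    obtain ⟨k, hk⟩ := exists_prime_orderOf_dvd_card' (G := (act T).ker) q hd
    obtain ⟨t, htT, ht1⟩ := (Subgroup.bot_or_exists_ne_one (T : Subgroup G)).resolve_left (h.T_ne_bot T)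
    have hk' : orderOf ((k : nor (T : Subgroup G)) : G) = q := by
      rw [Subgroup.orderOf_coe, Subgroup.orderOf_coe, hk]
    exact h.not_comm (Or.inl (h.orderOf_mem T htT ht1)) hk' ((act_ker_iff T _).1 k.2 t htT).symm
  let zY : Y := ⟨zN, hzY⟩
  let P : Sylow q Y := Sylow.ofCard (zpowers zY) (by
    rw [Nat.card_zpowers, Subgroup.orderOf_mk, hzNo, hcardY, Nat.factorization_mul h.hq.ne_zero Nat.card_pos.ne',
      Finsupp.add_apply, h.hq.factorization_self, Nat.factorization_eq_zero_of_not_dvd hkq, add_zero, pow_one])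
  have htop := Sylow.normalizer_sup_eq_top (N := Y) P
  -- an element outside `Y`
  obtain ⟨l, hl⟩ := exists_prime_orderOf_dvd_card' (G := autL T) p (S.card_L ▸ dvd_mul_right p q)
  obtain ⟨n₀, hn₀⟩ := hψs l
  have hmem := mem_top n₀
  rw [← htop, ← SetLike.mem_coe, Subgroup.mul_normal] at hmem
  obtain ⟨n, hn, y, hy, hny⟩ := hmem
  have hnY : n ∉ Y := by
    intro hnY
    have hn₀Y : n₀ ∈ Y := by rw [← hny]; exact mul_mem hnY hy
    have hlX : l ∈ X.subgroupOf (autL T) := hn₀ ▸ hn₀Y
    have hd := Subgroup.orderOf_dvd_natCard _ (show (l : MulAut (T : Subgroup G)) ∈ X from hlX)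
    rw [Subgroup.orderOf_coe, hl, hXc] at hd
    exact h.hpq ((Nat.prime_dvd_prime_iff_eq h.hp h.hq).1 hd)
  have hact : orderOf (act T n) = p := by
    rcases h.autL_orderOf T ⟨n, rfl⟩ with e | e | e
    · exact absurd (show act T n ∈ X by rw [orderOf_eq_one_iff.1 e]; exact one_mem _) hnY
    · exact e
    · exact absurd (hqX _ ⟨n, rfl⟩ e) hnY
  have hpd : p ∣ orderOf (n : G) := by
    rw [← hact, Subgroup.orderOf_coe]; exact orderOf_map_dvd _ _
  have hnz : (n : G) * z * (n : G)⁻¹ ∈ zpowers z := by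
    have h1 := (Subgroup.mem_normalizer_iff.1 hn zN).1 ⟨zY, mem_zpowers _, rfl⟩
    obtain ⟨w, hw, hwe⟩ := h1
    obtain ⟨i, rfl⟩ := hw
    refine ⟨i, ?_⟩
    have := congrArg (fun a : nor (T : Subgroup G) => (a : G)) hwe
    simpa [zY, zN] using this
  have hpow : ∀ k : ℕ, (n : G) ^ k * z * ((n : G) ^ k)⁻¹ ∈ zpowers z := by
    intro k
    induction k with
    | zero => simp
    | succ k ih =>
      obtain ⟨i, hi⟩ := ih
      obtain ⟨j, hj⟩ := hnz
      refine ⟨j * i, ?_⟩
      simp only at hi hj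
      show z ^ (j * i) = _
      rw [zpow_mul, hj, conj_zpow, hi, pow_succ']
      group
  refine ⟨(n : G) ^ (orderOf (n : G) / p), ?_, hpow _⟩
  rw [orderOf_pow_of_dvd (Nat.div_pos (Nat.le_of_dvd (orderOf_pos _) hpd) h.hp.pos).ne'
    (Nat.div_dvd_of_dvd hpd), Nat.div_div_self hpd (orderOf_pos _).ne']

/-- If `⟨z⟩` is normalised by `y`, so is the Sylow subgroup `C(z)`. -/
theorem mem_nor_of_conj {z y : G} (hy : y * z * y⁻¹ ∈ zpowers z) :
    y ∈ nor (centralizer ({z} : Set G)) := by
  refine mem_normalizer_fintype fun w hw => ?_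
  have hw' : Commute w z := mem_centralizer_singleton_iff.1 hw
  obtain ⟨i, hi⟩ := hy
  have hgen : z ∈ zpowers (y * z * y⁻¹) := by
    have ho : orderOf (y * z * y⁻¹) = orderOf z := (MulAut.conj y).orderOf_eq z
    have h1 : zpowers (y * z * y⁻¹) = zpowers z := Subgroup.eq_of_le_of_card_ge
      (zpowers_le.2 ⟨i, hi⟩) (by rw [Nat.card_zpowers, Nat.card_zpowers, ho])
    rw [h1]; exact mem_zpowers z
  obtain ⟨j, hj⟩ := hgen
  refine mem_centralizer_singleton_iff.2 ?_
  have h2 : Commute (y * w * y⁻¹) (y * z * y⁻¹) := hw'.map (MulAut.conj y).toMonoidHom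
  have h3 := h2.zpow_right j
  rw [show (y * z * y⁻¹) ^ j = z from hj] at h3
  exact h3.eq

theorem Hyp.p_zc_le (h : Hyp G p q) [Fact q.Prime] {z x : G} (hz : orderOf z = q) (hx : orderOf x = p)
    (hxz : x * z * x⁻¹ ∈ zpowers z) (Q : Sylow q G) (hQ : centralizer ({z} : Set G) = (Q : Subgroup G)) :
    p * Nat.card (Q : Subgroup G) ∣ Nat.card (nor (Q : Subgroup G)) := by
  have hxN : x ∈ nor (Q : Subgroup G) := hQ ▸ mem_nor_of_conj hxz
  obtain ⟨k, hk⟩ := Q.isPGroup'.exists_card_eq
  refine Nat.Coprime.mul_dvd_of_dvd_of_dvd ?_ (hx ▸ Subgroup.orderOf_dvd_natCard _ hxN)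
    (Subgroup.card_dvd_of_le le_normalizer)
  rw [hk]
  exact Nat.Coprime.pow_right k ((Nat.coprime_primes h.hp h.hq).2 h.hpq)

/-- In a group of odd order acted on by `T`, something centralises a subgroup of index at most two. -/
theorem Hyp.exists_big_centralizer (h : Hyp G p q) (T : Sylow 2 G) {V : Subgroup G}
    [IsMulCommutative V] (hV : V ≠ ⊥) (hTV : (T : Subgroup G) ≤ normalizer (V : Set G)) :
    ∃ v ∈ V, v ≠ 1 ∧ Nat.card (T : Subgroup G) ≤
      2 * Nat.card ((T : Subgroup G) ⊓ centralizer ({v} : Set G) : Subgroup G) := by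
  classical
  haveI := Fintype.ofFinite G
  set cv := fun v : G => ((T : Subgroup G) ⊓ centralizer ({v} : Set G) : Subgroup G) with hcv
  obtain ⟨v₀, hv₀V, hv₀1⟩ := (Subgroup.bot_or_exists_ne_one V).resolve_left hV
  obtain ⟨v, hv, hmax⟩ := Finset.exists_max_image (Finset.univ.filter fun v : G => v ∈ V ∧ v ≠ 1)
    (fun v => Nat.card (cv v)) ⟨v₀, by simp [hv₀V, hv₀1]⟩
  simp only [Finset.mem_filter, Finset.mem_univ, true_and] at hv hmax
  refine ⟨v, hv.1, hv.2, ?_⟩
  show _ ≤ 2 * Nat.card (cv v)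
  by_contra hlt
  push Not at hlt
  -- two elements outside `cv v` with product outside
  obtain ⟨a, ha, b, hb, hna, hnb, hnab⟩ : ∃ a ∈ (T : Subgroup G), ∃ b ∈ (T : Subgroup G),
      a ∉ cv v ∧ b ∉ cv v ∧ a * b ∉ cv v := by
    by_contra hall
    push Not at hall
    obtain ⟨a, ha, hna⟩ : ∃ a ∈ (T : Subgroup G), a ∉ cv v := by
      by_contra hle
      push Not at hle
      have := Nat.card_le_card_of_injective _ (Subgroup.inclusion_injective (show (T : Subgroup G) ≤ cv v from hle))
      omega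
    have h2 : Nat.card (T : Subgroup G) ≤ Nat.card (Bool × cv v) := by
      refine Nat.card_le_card_of_injective (fun b => if hb : (b : G) ∈ cv v then (true, ⟨b, hb⟩)
        else (false, ⟨a * b, hall a ha b b.2 hna hb⟩)) ?_
      intro b b' e
      by_cases hb : (b : G) ∈ cv v <;> by_cases hb' : (b' : G) ∈ cv v <;>
        simp only [hb, hb', dite_true, dite_false, Prod.mk.injEq, Subtype.mk.injEq, Bool.true_eq_false,
          Bool.false_eq_true, false_and, true_and] at e
      · exact Subtype.ext e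
      · exact Subtype.ext (mul_left_cancel e)
    rw [Nat.card_prod, Nat.card_eq_fintype_card (α := Bool), Fintype.card_bool] at h2
    omega
  set W : Subgroup G := V ⊓ centralizer ((cv v : Subgroup G) : Set G) with hW
  haveI : IsMulCommutative W := ⟨⟨fun x y => Subtype.ext
    (show (x : G) * y = y * x from
      congrArg (fun a : V => (a : G)) (mul_comm' (⟨x, x.2.1⟩ : V) ⟨y, y.2.1⟩))⟩⟩
  have hW1 : W ≠ ⊥ := by
    intro e
    have hvW : v ∈ W := ⟨hv.1, mem_centralizer_iff.2 fun s hs =>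
      mem_centralizer_singleton_iff.1 hs.2⟩
    rw [e, mem_bot] at hvW
    exact hv.2 hvW
  set A : Subgroup G := closure ({a, b} : Set G) with hA
  have hAT : A ≤ (T : Subgroup G) := (closure_le _).2 (by
    rintro x (rfl | rfl)
    · exact ha
    · exact hb)
  haveI : IsMulCommutative A := ⟨⟨fun x y => Subtype.ext (h.comm_mem T (hAT x.2) (hAT y.2))⟩⟩
  have haA : a ∈ A := subset_closure (Or.inl rfl)
  have hbA : b ∈ A := subset_closure (Or.inr rfl)
  -- the elements of `A`
  have hAel : ∀ x ∈ A, x = 1 ∨ x = a ∨ x = b ∨ x = a * b := by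
    intro x hx
    have ha2 := h.sq_eq_one T ha
    have hb2 := h.sq_eq_one T hb
    have hab : b * a = a * b := h.comm_mem T hb ha
    have e1 : a * (a * b) = b := by rw [← mul_assoc, ha2, one_mul]
    have e2 : b * (a * b) = a := by rw [← hab, ← mul_assoc, hb2, one_mul]
    have e3 : a * b * a = b := by rw [mul_assoc, hab, e1]
    have e4 : a * b * b = a := by rw [mul_assoc, hb2, mul_one]
    induction hx using Subgroup.closure_induction with
    | mem x hx => rcases hx with rfl | rfl <;> simp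
    | one => simp
    | mul x y _ _ hx hy =>
      rcases hx with rfl | rfl | rfl | rfl <;> rcases hy with rfl | rfl | rfl | rfl <;>
        simp [ha2, hb2, hab, e1, e2, e3, e4]
      all_goals
        have e5 : a * b * (a * b) = 1 := by rw [mul_assoc, e2, ha2]
        simp [e5]
    | inv x _ hx =>
      rcases hx with rfl | rfl | rfl | rfl
      · simp
      · exact Or.inr (Or.inl (inv_eq_of_mul_eq_one_right ha2))
      · exact Or.inr (Or.inr (Or.inl (inv_eq_of_mul_eq_one_right hb2)))
      · exact Or.inr (Or.inr (Or.inr (inv_eq_of_mul_eq_one_right (by rw [mul_assoc, e2, ha2]))))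
  have hAout : ∀ x ∈ A, x ≠ 1 → x ∉ cv v := by
    intro x hx hx1
    rcases hAel x hx with rfl | rfl | rfl | rfl
    · exact absurd rfl hx1
    · exact hna
    · exact hnb
    · exact hnab
  have hAnc : ¬ IsCyclic A := by
    intro hc
    obtain ⟨g, hg⟩ := hc.exists_generator
    have hg2 : g ^ 2 = 1 := Subtype.ext (by
      rw [SubmonoidClass.coe_pow, pow_two, OneMemClass.coe_one]; exact h.sq_eq_one T (hAT g.2))
    have hco : Nat.card A ≤ 2 := by
      rw [← orderOf_eq_card_of_forall_mem_zpowers hg]; exact orderOf_le_of_pow_eq_one two_pos hg2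
    have hne : a ≠ b := fun e => hnab (by rw [e, h.sq_eq_one T hb]; exact one_mem _)
    have h3 : ({⟨1, one_mem _⟩, ⟨a, haA⟩, ⟨b, hbA⟩} : Finset A).card = 3 := by
      rw [Finset.card_insert_of_notMem, Finset.card_insert_of_notMem, Finset.card_singleton]
      · simp [Subtype.ext_iff, hne]
      · simp only [Finset.mem_insert, Finset.mem_singleton, Subtype.mk.injEq]
        push Not
        exact ⟨fun e => hna (e ▸ one_mem _), fun e => hnb (e ▸ one_mem _)⟩
    haveI := Fintype.ofFinite A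
    have := Finset.card_le_univ ({⟨1, one_mem _⟩, ⟨a, haA⟩, ⟨b, hbA⟩} : Finset A)
    rw [h3, ← Nat.card_eq_fintype_card] at this
    omega
  have hAW : A ≤ normalizer (W : Set G) := by
    intro x hx
    refine mem_normalizer_fintype fun w hw => ⟨(Subgroup.mem_normalizer_iff.1 (hTV (hAT hx)) w).1 hw.1,
      mem_centralizer_iff.2 fun s hs => ?_⟩
    have c1 : Commute s x := h.comm_mem T hs.1 (hAT hx)
    have c2 : Commute s w := mem_centralizer_iff.1 hw.2 s hs
    exact (c1.mul_right c2).mul_right c1.inv_right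
  obtain ⟨x, hxA, hx1, hne⟩ := Grp.exists_centralizer_ne_bot A W hAnc hW1 hAW
  obtain ⟨v', hv', hv'1⟩ := (Subgroup.bot_or_exists_ne_one _).resolve_left hne
  have hlt' : cv v < cv v' := by
    refine lt_of_le_of_ne (fun s hs => ⟨hs.1, mem_centralizer_singleton_iff.2
      (mem_centralizer_iff.1 hv'.1.2 s hs)⟩) fun e => ?_
    refine hAout x hxA hx1 (e ▸ ⟨hAT hxA, mem_centralizer_singleton_iff.2 ?_⟩)
    exact (mem_centralizer_singleton_iff.1 hv'.2).symm
  have h9 := hmax v' ⟨hv'.1.1, hv'1⟩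
  exact hlt'.ne (Subgroup.eq_of_le_of_card_ge hlt'.le h9)

end Cfsg.Agent.Transfer.FiveOrbits
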