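import Mathlib
import Cfsg.Agent.Lib.Transfer.FiveOrbits.Final
import Cfsg.Agent.Lib.Transfer.Burnside

/-!
No simple group has element orders `1, 2, p, q, 2p` with one automorphism orbit for each order.
-/

set_option autoImplicit false
set_option linter.style.haveILetI false
set_option maxHeartbeats 800000

open scoped Pointwise

universe u

namespace Cfsg.Agent.Transfer.FiveOrbits

open Subgroup

variable {G : Type u} [Group G] [Finite G] {p q : ℕ}

/-- A 2-subgroup containing `T` equals it. -/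
theorem sylow_eq_of_le (T : Sylow 2 G) {X : Subgroup G} (hX : IsPGroup 2 X) (h : (T : Subgroup G) ≤ X) :
    X = (T : Subgroup G) := T.is_maximal' hX h

/-- An involution of `N(T)` lies in `T`. -/
theorem mem_sylow_of_nor (T : Sylow 2 G) {s : G} (hs : s ∈ nor (T : Subgroup G)) (ho : orderOf s = 2) :
    s ∈ (T : Subgroup G) := by
  haveI := Fact.mk Nat.prime_two
  have hz : IsPGroup 2 (zpowers s) := Invol.isPGroup_zpowers (n := 1) (by rw [ho, pow_one])
  have h1 : IsPGroup 2 ((T : Subgroup G) ⊔ zpowers s : Subgroup G) :=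
    T.isPGroup'.to_sup_of_normal_left' hz (zpowers_le.2 hs)
  exact sylow_eq_of_le T h1 le_sup_left ▸ mem_sup_right (mem_zpowers s)

/-- Either an element of order `p` centralises a big subgroup of `T`, or involution centralisers are small. -/
theorem Hyp.centralizer_cases (h : Hyp G p q) (T : Sylow 2 G) :
    (∃ x : G, orderOf x = p ∧ ∃ T1 : Subgroup G, T1 ≤ (T : Subgroup G) ∧
      Nat.card (T : Subgroup G) ≤ 2 * Nat.card T1 ∧ ∀ s ∈ T1, Commute x s) ∨
    (Nat.card (act T).ker = Nat.card (T : Subgroup G) ∧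
      ∀ t ∈ (T : Subgroup G), t ≠ 1 → centralizer ({t} : Set G) ≤ nor (T : Subgroup G)) := by
  classical
  haveI := Fact.mk Nat.prime_two
  by_cases hx : ∃ x : G, orderOf x = p ∧ ∃ T1 : Subgroup G, T1 ≤ (T : Subgroup G) ∧
      Nat.card (T : Subgroup G) ≤ 2 * Nat.card T1 ∧ ∀ s ∈ T1, Commute x s
  · exact Or.inl hx
  refine Or.inr ⟨?_, ?_⟩
  · -- the kernel is `T`
    set K := (act T).ker.map (nor (T : Subgroup G)).subtype with hK
    have hKc : Nat.card K = Nat.card (act T).ker :=
      Subgroup.card_map_of_injective (nor (T : Subgroup G)).subtype_injective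
    have hTK : (T : Subgroup G) ≤ K := fun s hs =>
      ⟨⟨s, le_normalizer hs⟩, h.tmem_le_ker T hs, rfl⟩
    have hK2 : IsPGroup 2 K := by
      rintro ⟨_, n, hn, rfl⟩
      refine ⟨1, Subtype.ext ?_⟩
      show (n : G) ^ 2 ^ 1 = 1
      rw [pow_one]
      have hc := (act_ker_iff T n).1 hn
      have key : ∀ y : G, orderOf y = p → (∀ s ∈ (T : Subgroup G), Commute y s) → False := fun y hy hys =>
        hx ⟨y, hy, T, le_rfl, by omega, hys⟩
      rcases h.ord (n : G) with e | e | e | e | e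
      · rw [orderOf_eq_one_iff.1 e, one_pow]
      · exact orderOf_dvd_iff_pow_eq_one.1 e.dvd
      · exact (key _ e hc).elim
      · exfalso
        obtain ⟨t, htT, ht1⟩ := (Subgroup.bot_or_exists_ne_one (T : Subgroup G)).resolve_left (h.T_ne_bot T)
        exact h.not_comm (Or.inl (h.orderOf_mem T htT ht1)) e (hc t htT).symm
      · refine (key ((n : G) ^ 2) ?_ fun s hs => (hc s hs).pow_left 2).elim
        rw [orderOf_pow_of_dvd two_ne_zero (e ▸ dvd_mul_right 2 p), e, Nat.mul_div_cancel_left _ two_pos]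
    rw [← hKc, sylow_eq_of_le T hK2 hTK]
  · intro t htT ht1
    have ht := h.orderOf_mem T htT ht1
    haveI := h.cen_solvable ht
    set C := centralizer ({t} : Set G) with hC
    have hTC := h.sylow_le_cen T htT
    set S := T.subtype hTC with hS
    haveI hOn : (Cfsg.pPrimeCore 2 C).Normal := Grp.pPrimeCore_isNormal
    have hObot : Cfsg.pPrimeCore 2 C = ⊥ := by
      by_contra hne
      set O := Cfsg.pPrimeCore 2 C with hO
      have hOodd : ∀ y : O, Odd (orderOf y) := fun y =>
        (Nat.not_even_iff_odd.1 fun he => Grp.pPrimeCore_not_dvd (p := 2) (G := C) he.two_dvd :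
          Odd (Nat.card O)).of_dvd_nat (orderOf_dvd_natCard y)
      haveI := Fact.mk h.hp
      have hOp : IsPGroup p O := by
        intro y
        rcases h.ord_odd_comm ht (cen_comm (y : C).2)
          (by rw [Subgroup.orderOf_coe, Subgroup.orderOf_coe]; exact hOodd y) with e | e
        · exact ⟨0, by rw [pow_zero, pow_one]; exact Subtype.ext (Subtype.ext (orderOf_eq_one_iff.1 e))⟩
        · exact ⟨1, by rw [pow_one, ← e, Subgroup.orderOf_coe, Subgroup.orderOf_coe, pow_orderOf_eq_one]⟩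
      haveI : Nontrivial O := (Subgroup.nontrivial_iff_ne_bot _).2 hne
      haveI := hOp.center_nontrivial
      set O' := O.map C.subtype with hO'
      set V : Subgroup G := O' ⊓ centralizer (O' : Set G) with hV
      haveI : IsMulCommutative V := ⟨⟨fun a b => Subtype.ext
        (mem_centralizer_iff.1 b.2.2 a a.2.1 : (a : G) * b = b * a)⟩⟩
      have hV1 : V ≠ ⊥ := by
        obtain ⟨⟨w, hwc⟩, hw⟩ := exists_ne (1 : center O)
        intro e
        have hmem : ((w : C) : G) ∈ V := by
          refine ⟨⟨w, w.2, rfl⟩, mem_centralizer_iff.2 ?_⟩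
          rintro _ ⟨y, hy, rfl⟩
          exact congrArg (fun a : O => ((a : C) : G)) (mem_center_iff.1 hwc ⟨y, hy⟩)
        rw [e, mem_bot] at hmem
        exact hw (Subtype.ext (Subtype.ext (Subtype.ext hmem)))
      have hnO : ∀ c : C, ∀ y : G, y ∈ O' → (c : G) * y * (c : G)⁻¹ ∈ O' := by
        rintro c _ ⟨y, hy, rfl⟩
        exact ⟨c * y * c⁻¹, hOn.conj_mem y hy c, rfl⟩
      have hTV : (T : Subgroup G) ≤ normalizer (V : Set G) := by
        intro s hs
        refine mem_normalizer_fintype fun v hv => ⟨hnO ⟨s, hTC hs⟩ v hv.1, mem_centralizer_iff.2 fun y hy => ?_⟩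
        have hy' : s⁻¹ * y * s ∈ O' := by
          have := hnO ⟨s⁻¹, hTC (inv_mem hs)⟩ y hy
          simpa using this
        have := mem_centralizer_iff.1 hv.2 _ hy'
        calc y * (s * v * s⁻¹) = s * (s⁻¹ * y * s * v) * s⁻¹ := by group
          _ = s * (v * (s⁻¹ * y * s)) * s⁻¹ := by rw [this]
          _ = s * v * s⁻¹ * y := by group
      obtain ⟨v, hvV, hv1, hbig⟩ := h.exists_big_centralizer T hV1 hTV
      obtain ⟨y, hy, rfl⟩ := hvV.1
      refine hx ⟨_, ?_, _, inf_le_left, hbig, fun s hs => (cen_comm hs.2).symm⟩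
      refine (h.ord_odd_comm ht (cen_comm y.2) ?_).resolve_left fun e => hv1 (orderOf_eq_one_iff.1 e)
      have := hOodd ⟨y, hy⟩
      rw [Subgroup.orderOf_mk] at this
      rw [Subgroup.orderOf_coe]
      exact this
    have hSc : IsMulCommutative (S : Subgroup C) :=
      ⟨⟨fun a b => Subtype.ext (Subtype.ext (h.comm_mem T a.2 b.2))⟩⟩
    have hle := Grp.pCore_le_sylow (p := 2) S
    have hge : (S : Subgroup C) ≤ Cfsg.pCore 2 C := fun a ha =>
      Grp.centralizer_pCore_le hObot (mem_centralizer_iff.2 fun b hb =>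
        congrArg Subtype.val (hSc.is_comm.comm (⟨b, hle hb⟩ : (S : Subgroup C)) ⟨a, ha⟩))
    haveI : (S : Subgroup C).Normal := (le_antisymm hge hle) ▸ Grp.pCore_isNormal
    intro c hc
    refine mem_normalizer_fintype fun y hy => ?_
    exact (inferInstance : (S : Subgroup C).Normal).conj_mem ⟨y, hTC hy⟩ hy ⟨c, hc⟩

/-- An element of order `p` commuting with a subgroup of involutions bounds `f`. -/
theorem Hyp.le_fval (h : Hyp G p q) (T : Sylow 2 G) {x : G} (hx : orderOf x = p) {T1 : Subgroup G}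
    (hT1 : T1 ≤ (T : Subgroup G)) (hc : ∀ s ∈ T1, Commute x s) {x₀ : G} (hx₀ : orderOf x₀ = p) :
    Nat.card T1 ≤ fval x₀ + 1 := by
  classical
  haveI := Fintype.ofFinite G
  rw [← h.fval_eq hx hx₀]
  have h1 : Nat.card {s : T1 // s ≠ 1} ≤ fval x := Nat.card_le_card_of_injective
    (fun s => ⟨(s.1 : G), h.orderOf_mem T (hT1 s.1.2) (fun e => s.2 (Subtype.ext e)), hc _ s.1.2⟩)
    fun a b e => Subtype.ext (Subtype.ext (Subtype.ext_iff.1 e :))
  rw [Nat.card_eq_fintype_card, Fintype.card_subtype_compl, Fintype.card_subtype_eq,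
    ← Nat.card_eq_fintype_card] at h1
  omega

theorem Hyp.exists_two_p_pair (h : Hyp G p q) (T : Sylow 2 G) :
    ∃ t x : G, t ∈ (T : Subgroup G) ∧ t ≠ 1 ∧ orderOf x = p ∧ Commute x t := by
  haveI := Fact.mk Nat.prime_two
  obtain ⟨w, hw⟩ := h.ex2p
  have ho : orderOf (w ^ p) = 2 := by
    rw [orderOf_pow_of_dvd h.hp.ne_zero (hw ▸ dvd_mul_left p 2), hw, Nat.mul_div_cancel _ h.hp.pos]
  obtain ⟨g, hg⟩ := Invol.exists_conj_mem_sylow (n := 1) (by rw [ho, pow_one]) T
  refine ⟨g * w ^ p * g⁻¹, g * w ^ 2 * g⁻¹, hg, ?_, ?_, ((Commute.refl w).pow_pow 2 p).map (MulAut.conj g).toMonoidHom⟩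
  · intro e
    rw [conj_eq_one_iff.1 e, orderOf_one] at ho
    omega
  · rw [show g * w ^ 2 * g⁻¹ = MulAut.conj g (w ^ 2) from rfl, MulEquiv.orderOf_eq,
      orderOf_pow_of_dvd two_ne_zero (hw ▸ dvd_mul_right 2 p), hw, Nat.mul_div_cancel_left _ two_pos]

/-- The semiregular case. -/
theorem Hyp.false_of_semi (h : Hyp G p q) (T : Sylow 2 G) (hs : SemiReg T) : False := by
  classical
  haveI := Fact.mk h.hq
  obtain ⟨t, x₀, htT, ht1, hx₀, hcx⟩ := h.exists_two_p_pair T
  have ht := h.orderOf_mem T htT ht1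
  rcases h.centralizer_cases T with ⟨x, hx, T1, hT1, hbig, hc⟩ | ⟨hker, hC⟩
  · have hodd : oddNor T t ≤ oddFib T 1 := by
      refine (oddNor_le T ⟨t, htT⟩ {1} fun n hn _ => Finset.mem_singleton.2 ?_).trans (le_of_eq (Finset.sum_singleton _ _))
      exact hs _ ⟨n, rfl⟩ _ (fun e => ht1 (congrArg Subtype.val e)) hn
    have hfib := h.oddFib_mul T 1
    rw [fx_one, Subgroup.card_top] at hfib
    have hev := h.even_mul T ht htT
    rw [card_nor_eq] at hev
    have hL := h.three_le_autL T
    have hf := h.le_fval T hx hT1 hc hx₀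
    have hcp := h.cnt_p_mul hx₀
    have hT := h.four_le T
    obtain ⟨Q⟩ := (inferInstance : Nonempty (Sylow q G))
    refine h.final Q 2 (by omega) (h.two_zc_le Q) ?_
    have hf1 : 1 ≤ fval x₀ := by
      haveI : Nonempty {s : G // orderOf s = 2 ∧ Commute x₀ s} := ⟨⟨t, ht, hcx⟩⟩
      exact Nat.card_pos
    set g := Nat.card G
    set τ := Nat.card (T : Subgroup G)
    set E := cnt G 2 + cnt G (2 * p) with hE
    set K := Nat.card (act T).ker with hK
    set ℓ := Nat.card (autL T)
    have hKpos : 0 < K := Nat.card_pos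
    have h2 : E * ℓ * τ ≤ g * (τ - 1) := by
      refine Nat.le_of_mul_le_mul_left ?_ hKpos
      calc K * (E * ℓ * τ) = E * (ℓ * K) * τ := by ring
        _ = g * (τ - 1) * (oddNor T t * τ) := by rw [hev]; ring
        _ ≤ g * (τ - 1) * K := Nat.mul_le_mul_left _ ((Nat.mul_le_mul_right _ hodd).trans hfib)
        _ = K * (g * (τ - 1)) := by ring
    have h3 : 3 * E * τ ≤ g * (τ - 1) :=
      le_trans (by nlinarith [Nat.mul_le_mul_left (E * τ) hL]) h2
    have h4 : cnt G p * fval x₀ ≤ E := by omega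
    rw [show (2 : ℕ) - 1 = 1 from rfl, mul_one]
    rcases Nat.lt_or_ge τ 5 with hlt | hge
    · have hτ : τ = 4 := by omega
      rw [hτ] at h3
      have : cnt G p ≤ E := le_trans (Nat.le_mul_of_pos_right _ hf1) h4
      omega
    · have h5 : 2 * cnt G p ≤ E := by
        refine le_trans ?_ h4
        rw [mul_comm]
        exact Nat.mul_le_mul_left _ (by omega)
      have h6 : 3 * E * τ ≤ g * τ := le_trans h3 (Nat.mul_le_mul_left _ (Nat.sub_le _ _))
      have h7 : 3 * E ≤ g := Nat.le_of_mul_le_mul_right h6 (by omega)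
      omega
  · -- every element of order `p` centralising `t` acts trivially
    have hxN : x₀ ∈ nor (T : Subgroup G) := hC t htT ht1 (mem_cen_of_comm hcx)
    have hact : act T ⟨x₀, hxN⟩ = 1 :=
      hs _ ⟨_, rfl⟩ ⟨t, htT⟩ (fun e => ht1 (congrArg Subtype.val e)) ((act_eq_iff T _ _).2 hcx)
    have hd : p ∣ Nat.card (T : Subgroup G) := by
      rw [← hker, ← hx₀, ← Subgroup.orderOf_mk x₀ hxN]
      exact Subgroup.orderOf_dvd_natCard _ (MonoidHom.mem_ker.2 hact)
    obtain ⟨k, hk⟩ := T.isPGroup'.exists_card_eq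
    rw [hk] at hd
    exact h.hp2 ((Nat.prime_dvd_prime_iff_eq h.hp Nat.prime_two).1 (h.hp.dvd_of_dvd_pow hd))

/-- The case where `N(T)` is strongly embedded. -/
theorem Hyp.embedded (h : Hyp G p q) (T : Sylow 2 G) {c : ℕ} (S : NonSemi T p q c)
    (hker : Nat.card (act T).ker = Nat.card (T : Subgroup G))
    (hC : ∀ t ∈ (T : Subgroup G), t ≠ 1 → centralizer ({t} : Set G) ≤ nor (T : Subgroup G)) :
    c = 2 ∧ ∃ z x u : G, orderOf z = q ∧ orderOf x = p ∧ orderOf u = 2 ∧ x * z * x⁻¹ ∈ zpowers z ∧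
      u * z * u⁻¹ ∈ zpowers z := by
  classical
  haveI := Fact.mk Nat.prime_two
  haveI := Fact.mk h.hq
  haveI : Finite (MulAut (T : Subgroup G)) :=
    Finite.of_injective _ (DFunLike.coe_injective (F := MulAut (T : Subgroup G)))
  set N := nor (T : Subgroup G) with hN
  have hTN : (T : Subgroup G) ≤ N := le_normalizer
  have hNtop : N ≠ ⊤ := by
    intro e
    haveI : (T : Subgroup G).Normal := normalizer_eq_top_iff.1 e
    rcases h.normal_eq (T : Subgroup G) with e' | e'
    · exact h.T_ne_bot T e'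
    · exact h.not_top T.isPGroup' e'
  obtain ⟨t, ht1T, ht1⟩ := (Subgroup.bot_or_exists_ne_one (T : Subgroup G)).resolve_left (h.T_ne_bot T)
  have ht := h.orderOf_mem T ht1T ht1
  have hev : Even (Nat.card N) := by
    rw [even_iff_two_dvd, ← ht]; exact Subgroup.orderOf_dvd_natCard _ (hTN ht1T)
  have hne1 : ∀ {s : G}, orderOf s = 2 → s ≠ 1 := fun hs e => by
    rw [e, orderOf_one] at hs; omega
  have hSE : Cfsg.IsStronglyEmbedded N := (S0223.result N hNtop hev).2 ⟨fun s hs hso =>
      hC s (mem_sylow_of_nor T hs hso) (hne1 hso), fun s hs r hr hso hro hcj => by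
    obtain ⟨g, hg⟩ := isConj_iff.1 hcj
    obtain ⟨n, hn, e⟩ := exists_normalizer_conj_of_abelian T (h.sylow_comm T) (mem_sylow_of_nor T hs hso)
      (g := g) (hg ▸ mem_sylow_of_nor T hr hro)
    exact ⟨n, hn, e.trans hg⟩⟩
  -- an involution outside
  obtain ⟨u, hu, huN⟩ : ∃ u : G, orderOf u = 2 ∧ u ∉ N := by
    by_contra hall
    push Not at hall
    haveI hnorm : (T : Subgroup G).Normal := ⟨fun y hy g => by
      rcases eq_or_ne y 1 with rfl | hy1
      · simp
      · have ho : orderOf (g * y * g⁻¹) = 2 := by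
          rw [show g * y * g⁻¹ = MulAut.conj g y from rfl, MulEquiv.orderOf_eq]; exact h.orderOf_mem T hy hy1
        exact mem_sylow_of_nor T (hall _ ho) ho⟩
    exact hNtop (normalizer_eq_top_iff.2 hnorm)
  set D := N ⊓ N.map (MulAut.conj u).toMonoidHom with hD
  have hDodd : Odd (Nat.card D) := hSE.2.2 u huN
  have huinv : u⁻¹ = u := inv_eq_of_mul_eq_one_right (by rw [← pow_two, ← hu, pow_orderOf_eq_one])
  have hDu : ∀ d ∈ D, u * d * u⁻¹ ∈ D := by
    intro d hd
    obtain ⟨n, hn, hne⟩ := hd.2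
    have hne' : u * n * u⁻¹ = d := hne
    refine ⟨?_, ⟨d, hd.1, rfl⟩⟩
    have e : u * d * u⁻¹ = n := by
      rw [← hne', huinv]
      have huu : u * u = 1 := by rw [← pow_two, ← hu, pow_orderOf_eq_one]
      simp only [mul_assoc, huu, mul_one]
      rw [← mul_assoc, huu, one_mul]
    rw [e]; exact hn
  -- `D` maps injectively to `L`
  let f : D →* MulAut (T : Subgroup G) := (act T).comp (Subgroup.inclusion (inf_le_left : D ≤ N))
  have hf : Function.Injective f := (injective_iff_map_eq_one f).2 fun d hd => by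
    have hm : (Subgroup.inclusion (inf_le_left : D ≤ N) d) ∈ (act T).ker := MonoidHom.mem_ker.2 hd
    have h1 : orderOf (d : G) ∣ Nat.card (T : Subgroup G) := by
      rw [← hker, show orderOf (d : G) = orderOf (Subgroup.inclusion (inf_le_left : D ≤ N) d) from
        orderOf_injective N.subtype N.subtype_injective (Subgroup.inclusion (inf_le_left : D ≤ N) d)]
      exact Subgroup.orderOf_dvd_natCard _ hm
    obtain ⟨k, hk⟩ := T.isPGroup'.exists_card_eq
    have h2 : (orderOf (d : G)).Coprime (2 ^ k) :=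
      Nat.Coprime.pow_right k (Nat.coprime_two_right.2 (hDodd.of_dvd_nat (Subgroup.orderOf_dvd_natCard _ d.2)))
    exact Subtype.ext (orderOf_eq_one_iff.1 (Nat.eq_one_of_dvd_coprimes h2 dvd_rfl (hk ▸ h1)))
  -- transitivity of `D` on `T`
  set t' : (T : Subgroup G) := ⟨t, ht1T⟩ with ht'
  have ht'1 : t' ≠ 1 := fun e => ht1 (congrArg Subtype.val e)
  have htrans : ∀ s : {s : (T : Subgroup G) // s ≠ 1}, ∃ d : D, f d t' = s.1 := by
    rintro ⟨s, hs1⟩
    obtain ⟨⟨d, hd, he⟩, -⟩ := S1225.result N hSE u hu huN t (s : G) ht (hTN ht1T)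
      (h.orderOf_mem T s.2 fun e => hs1 (Subtype.ext e)) (hTN s.2)
    exact ⟨⟨d, hd⟩, Subtype.ext ((act_coe T _ _).trans he)⟩
  choose δ hδ using htrans
  have hcardT : Nat.card {s : (T : Subgroup G) // s ≠ 1} = Nat.card (T : Subgroup G) - 1 := by
    haveI := Fintype.ofFinite (T : Subgroup G)
    rw [Nat.card_eq_fintype_card, Fintype.card_subtype_compl, Fintype.card_subtype_eq,
      ← Nat.card_eq_fintype_card]
  -- the orbit of `t` has size `q`
  have hq_orbit : Nat.card {s : (T : Subgroup G) // s ≠ 1} * p ≤ p * q := by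
    rw [← S.card_L, ← S.stab t' ht'1, ← Nat.card_prod]
    refine Nat.card_le_card_of_injective (fun a =>
      (⟨f (δ a.1) * a.2.1, mul_mem ⟨_, rfl⟩ a.2.2.1⟩ : autL T)) ?_
    rintro ⟨s, l⟩ ⟨s', l'⟩ e
    have e' : f (δ s) * l.1 = f (δ s') * l'.1 := congrArg Subtype.val e
    have hss : s = s' := by
      have := DFunLike.congr_fun e' t'
      rw [MulAut.mul_apply, MulAut.mul_apply, l.2.2, l'.2.2, hδ, hδ] at this
      exact Subtype.ext this
    subst hss
    exact Prod.ext rfl (Subtype.ext (mul_left_cancel e'))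
  have hcount := S.count
  have hc2 := S.two_le
  have hqpos := h.hq.pos
  have hc : c = 2 := by
    rw [hcardT, hcount, Nat.add_sub_cancel] at hq_orbit
    have h1 : q * (c - 1) * p ≤ q * 1 * p := by rw [mul_one]; exact hq_orbit.trans_eq (mul_comm _ _)
    have := Nat.le_of_mul_le_mul_left (Nat.le_of_mul_le_mul_right h1 h.hp.pos) hqpos
    omega
  refine ⟨hc, ?_⟩
  have hδinj : Function.Injective δ := fun a b e => Subtype.ext (by rw [← hδ a, ← hδ b, e])
  have hqD : q ≤ Nat.card D := by
    have := Nat.card_le_card_of_injective δ hδinj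
    rw [hcardT, hcount, hc] at this
    simpa using this
  have hqdvd : q ∣ Nat.card D := by
    have hd : Nat.card D ∣ p * q := by
      rw [← S.card_L]
      exact Subgroup.card_dvd_of_injective (f.codRestrict (autL T) fun d => ⟨_, rfl⟩)
        fun a b e => hf (congrArg Subtype.val e :)
    rcases Nat.coprime_or_dvd_of_prime h.hq (Nat.card D) with hco | hd'
    · have h2 : Nat.card D ∣ p := (Nat.Coprime.dvd_mul_right hco.symm).1 hd
      have := Nat.le_of_dvd h.hp.pos h2
      have := S.pq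
      omega
    · exact hd'
  obtain ⟨z, hz⟩ := exists_prime_orderOf_dvd_card' (G := D) q hqdvd
  have hzo : orderOf (z : G) = q := by rw [Subgroup.orderOf_coe]; exact hz
  obtain ⟨x, hx, hxz⟩ := h.exists_normalizing T S (z.2.1 : (z : G) ∈ N) hzo
  refine ⟨z, x, u, hzo, hx, hu, hxz, ?_⟩
  set z' : D := ⟨u * z * u⁻¹, hDu _ z.2⟩ with hz'
  obtain ⟨X, hXL, hXc, -, hqX⟩ := S.norm
  have hzfo : orderOf (f z) = q := by rw [orderOf_injective f hf, hz]
  have hz'fo : orderOf (f z') = q := by
    rw [orderOf_injective f hf, hz', Subgroup.orderOf_mk]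
    rw [show u * (z : G) * u⁻¹ = MulAut.conj u (z : G) from rfl, MulEquiv.orderOf_eq, hzo]
  have hzX : zpowers (f z) = X := Subgroup.eq_of_le_of_card_ge (zpowers_le.2 (hqX _ ⟨_, rfl⟩ hzfo))
    (by rw [Nat.card_zpowers, hzfo, hXc])
  obtain ⟨i, hi⟩ : f z' ∈ zpowers (f z) := hzX ▸ hqX _ ⟨_, rfl⟩ hz'fo
  have hi' : z ^ i = z' := hf (by rw [map_zpow]; exact hi)
  exact ⟨i, congrArg Subtype.val hi'⟩

/-- The non-semiregular case. -/
theorem Hyp.false_of_nonSemi (h : Hyp G p q) (T : Sylow 2 G) {c : ℕ} (S : NonSemi T p q c) : False := by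
  classical
  haveI := Fact.mk h.hq
  haveI := Fact.mk Nat.prime_two
  haveI : Finite (MulAut (T : Subgroup G)) :=
    Finite.of_injective _ (DFunLike.coe_injective (F := MulAut (T : Subgroup G)))
  obtain ⟨t, x₀, htT, ht1, hx₀, hcx⟩ := h.exists_two_p_pair T
  have ht := h.orderOf_mem T htT ht1
  set t' : (T : Subgroup G) := ⟨t, htT⟩ with ht'
  have ht'1 : t' ≠ 1 := fun e => ht1 (congrArg Subtype.val e)
  have hcp := h.cnt_p_mul hx₀
  have hf1 : 1 ≤ fval x₀ := by
    haveI : Nonempty {s : G // orderOf s = 2 ∧ Commute x₀ s} := ⟨⟨t, ht, hcx⟩⟩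
    exact Nat.card_pos
  haveI := Fintype.ofFinite (stabL T t')
  let U : Finset (MulAut (T : Subgroup G)) := Finset.univ.map ⟨fun l : stabL T t' => l.1, Subtype.val_injective⟩
  have hU : oddNor T t ≤ ∑ l ∈ U, oddFib T l := oddNor_le T t' U fun n hn _ =>
    Finset.mem_map.2 ⟨⟨act T n, ⟨n, rfl⟩, hn⟩, Finset.mem_univ _, rfl⟩
  set τ := Nat.card (T : Subgroup G) with hτ
  set K := Nat.card (act T).ker with hK
  have hodd : oddNor T t * τ * c ≤ K * (c + (p - 1) * τ) := by
    refine (Nat.mul_le_mul_right _ (Nat.mul_le_mul_right _ hU)).trans ?_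
    rw [Finset.sum_mul, Finset.sum_mul]
    have h1mem : (1 : MulAut (T : Subgroup G)) ∈ U :=
      Finset.mem_map.2 ⟨1, Finset.mem_univ _, rfl⟩
    rw [← Finset.add_sum_erase _ _ h1mem, mul_add]
    refine add_le_add ?_ ?_
    · refine Nat.mul_le_mul_right c ?_
      have := h.oddFib_mul T 1
      rwa [fx_one, Subgroup.card_top] at this
    · calc ∑ l ∈ U.erase 1, oddFib T l * τ * c ≤ ∑ l ∈ U.erase 1, K * τ := by
            refine Finset.sum_le_sum fun l hl => ?_
            obtain ⟨hl1, hlU⟩ := Finset.mem_erase.1 hl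
            obtain ⟨m, -, hm⟩ := Finset.mem_map.1 hlU
            obtain rfl : m.1 = l := hm
            have hlo := (h.fixed_orderOf T m.2.1 ht'1 m.2.2).resolve_left fun e =>
              hl1 (orderOf_eq_one_iff.1 e)
            have h2 := h.oddFib_mul T m.1
            rw [S.fix _ m.2.1 hlo] at h2
            calc oddFib T m.1 * τ * c = oddFib T m.1 * c * τ := by ring
              _ ≤ K * τ := Nat.mul_le_mul_right _ h2
        _ = K * ((p - 1) * τ) := by
            rw [Finset.sum_const, smul_eq_mul, Finset.card_erase_of_mem h1mem, Finset.card_map,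
              Finset.card_univ, ← Nat.card_eq_fintype_card, S.stab t' ht'1]
            ring
  have hev := h.even_mul T ht htT
  rw [card_nor_eq, S.card_L, ← hτ, ← hK] at hev
  set g := Nat.card G with hg
  set E := cnt G 2 + cnt G (2 * p) with hE
  have hKpos : 0 < K := Nat.card_pos
  have hcount := S.count
  rw [← hτ] at hcount
  have hτ1 : τ - 1 = q * (c - 1) := by omega
  have hE1 : E * (p * τ * c) ≤ g * ((c - 1) * (c + (p - 1) * τ)) := by
    refine Nat.le_of_mul_le_mul_left ?_ (Nat.mul_pos hKpos h.hq.pos)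
    calc K * q * (E * (p * τ * c)) = E * (p * q * K) * (τ * c) := by ring
      _ = g * (τ - 1) * (oddNor T t * τ * c) := by rw [hev]; ring
      _ ≤ g * (τ - 1) * (K * (c + (p - 1) * τ)) := Nat.mul_le_mul_left _ hodd
      _ = K * q * (g * ((c - 1) * (c + (p - 1) * τ))) := by rw [hτ1]; ring
  obtain ⟨P, hP⟩ : ∃ P, p = P + 1 := ⟨p - 1, by have := h.p_ge; omega⟩
  have hP2 : 2 ≤ P := by have := h.p_ge; omega
  obtain ⟨d, hd⟩ : ∃ d, c = d + 1 := ⟨c - 1, by have := S.two_le; omega⟩
  have hd1 : 1 ≤ d := by have := S.two_le; omega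
  have hsq := S.sq
  rw [← hτ] at hsq
  rcases h.centralizer_cases T with ⟨x, hx, T1, hT1, hbig, hc⟩ | ⟨hker, hC⟩
  · -- many involutions centralise an element of order `p`
    obtain ⟨X, hXL, hXc, -, -⟩ := S.norm
    obtain ⟨l, hl⟩ := exists_prime_orderOf_dvd_card' (G := X) q (hXc ▸ dvd_rfl)
    obtain ⟨n, hn⟩ := hXL l.2
    have hqn : q ∣ orderOf (n : G) := by
      rw [← hl, ← Subgroup.orderOf_coe, ← hn, Subgroup.orderOf_coe]; exact orderOf_map_dvd _ _
    have hno : orderOf (n : G) = q := (h.ord_dvd (n : G)).resolve_left fun e => by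
      rcases h.hq.dvd_mul.1 (hqn.trans e) with e1 | e1
      · exact h.hq2 ((Nat.prime_dvd_prime_iff_eq h.hq Nat.prime_two).1 e1)
      · exact h.hpq ((Nat.prime_dvd_prime_iff_eq h.hq h.hp).1 e1).symm
    obtain ⟨y, hy, hyz⟩ := h.exists_normalizing T S n.2 hno
    obtain ⟨Q, hQ⟩ := h.cen_q_sylow hno
    have hpz := Nat.le_of_dvd Nat.card_pos (h.p_zc_le hno hy hyz Q hQ)
    refine h.final Q p h.hp.one_le ((Nat.mul_le_mul_left _ (zc_le _)).trans hpz) ?_
    have hf := h.le_fval T hx hT1 hc hx₀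
    set f := fval x₀ with hfdef
    have hτf : τ ≤ 2 * (f + 1) := by omega
    have h4c : 4 * c ≤ τ + 1 := by
      rcases Nat.lt_or_ge c 4 with hlt | hge
      · obtain ⟨k, hk⟩ := T.isPGroup'.exists_card_eq
        rw [← hτ] at hk
        have h5 : 5 ≤ q := by
          have := S.pq; have := h.p_ge
          rcases h.q_odd with ⟨j, hj⟩
          omega
        have h6 : 5 * (c - 1) ≤ q * (c - 1) := Nat.mul_le_mul_right _ h5
        have h7 : τ ≠ 6 := by
          intro e
          rw [e] at hk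
          rcases k with _ | _ | _ | k
          · norm_num at hk
          · norm_num at hk
          · norm_num at hk
          · rw [show k + 1 + 1 + 1 = k + 3 by omega, pow_add] at hk; omega
        have := S.two_le
        omega
      · nlinarith
    have hfc : 2 * c ≤ f + 1 := by omega
    -- the main inequality
    have key : (c - 1) * (c + (p - 1) * τ) * (f + 1) ≤ (p - 1) * f * τ * c := by
      subst hP hd
      simp only [Nat.add_sub_cancel]
      have e1 : d * (d + 1) ≤ τ := le_trans (Nat.mul_le_mul_right _ (Nat.le_succ d)) hsq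
      obtain ⟨r, hr⟩ : ∃ r, f = 2 * d + 1 + r := ⟨f - (2 * d + 1), by omega⟩
      rw [hr]
      have e2 : d * (d + 1) * (2 * d + 1 + r + 1) ≤ τ * (2 * d + 2 + r) := by
        calc _ ≤ τ * (2 * d + 1 + r + 1) := Nat.mul_le_mul_right _ e1
          _ = _ := by ring
      have e3 : τ * (2 * d + 2 + r) ≤ 2 * (τ * (d + 1 + r)) := by nlinarith
      have e4 : 2 * (τ * (d + 1 + r)) ≤ P * (τ * (d + 1 + r)) := Nat.mul_le_mul_right _ hP2
      nlinarith
    have hE2 : E * (p * (f + 1)) ≤ g * ((p - 1) * f) := by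
      refine Nat.le_of_mul_le_mul_right ?_ (Nat.mul_pos (show 0 < τ by omega) (show 0 < c by omega))
      calc E * (p * (f + 1)) * (τ * c) = E * (p * τ * c) * (f + 1) := by ring
        _ ≤ g * ((c - 1) * (c + (p - 1) * τ)) * (f + 1) := Nat.mul_le_mul_right _ hE1
        _ = g * ((c - 1) * (c + (p - 1) * τ) * (f + 1)) := by ring
        _ ≤ g * ((p - 1) * f * τ * c) := Nat.mul_le_mul_left _ key
        _ = g * ((p - 1) * f) * (τ * c) := by ring
    have h4 : cnt G p * f ≤ E := by omega
    refine Nat.le_of_mul_le_mul_right ?_ (show 0 < f by omega)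
    calc p * (cnt G 2 + cnt G (2 * p) + cnt G p) * f = p * (E * f + cnt G p * f) := by rw [hE]; ring
      _ ≤ p * (E * f + E) := Nat.mul_le_mul_left _ (Nat.add_le_add_left h4 _)
      _ = E * (p * (f + 1)) := by ring
      _ ≤ g * ((p - 1) * f) := hE2
      _ = g * (p - 1) * f := by ring
  · -- `N(T)` is strongly embedded
    obtain ⟨hc2, z, x, u, hz, hx, hu, hxz, huz⟩ := h.embedded T S hker hC
    obtain ⟨Q, hQ⟩ := h.cen_q_sylow hz
    have hpd := h.p_zc_le hz hx hxz Q hQ
    have huN : u ∈ nor (Q : Subgroup G) := hQ ▸ mem_nor_of_conj huz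
    obtain ⟨k, hk⟩ := Q.isPGroup'.exists_card_eq
    have h2pd : 2 * (p * Nat.card (Q : Subgroup G)) ∣ Nat.card (nor (Q : Subgroup G)) := by
      refine Nat.Coprime.mul_dvd_of_dvd_of_dvd ?_ (hu ▸ Subgroup.orderOf_dvd_natCard _ huN) hpd
      rw [hk]
      exact Nat.Coprime.mul_right ((Nat.coprime_primes Nat.prime_two h.hp).2 h.hp2.symm)
        (Nat.Coprime.pow_right k ((Nat.coprime_primes Nat.prime_two h.hq).2 h.hq2.symm))
    refine h.final Q (2 * p) (by have := h.p_ge; omega) ?_ ?_
    · have := Nat.le_of_dvd Nat.card_pos h2pd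
      calc 2 * p * zc (Q : Subgroup G) ≤ 2 * p * Nat.card (Q : Subgroup G) :=
            Nat.mul_le_mul_left _ (zc_le _)
        _ = 2 * (p * Nat.card (Q : Subgroup G)) := by ring
        _ ≤ _ := this
    -- the number of involutions
    have hsig : sig t = 1 := by
      have h1 := h.sig_mul T htT
      have h2 : norFix T t = Nat.card (centralizer ({t} : Set G)) := Nat.card_congr
        { toFun := fun n => ⟨n.1, mem_cen_of_comm n.2.2⟩
          invFun := fun n => ⟨n.1, hC t htT ht1 n.2, cen_comm n.2⟩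
          left_inv := fun _ => rfl
          right_inv := fun _ => rfl }
      rw [h2] at h1
      exact Nat.eq_of_mul_eq_mul_right Nat.card_pos (h1.trans (one_mul _).symm)
    have h2 := h.cnt_two_mul T ht
    rw [hsig, mul_one, ← hτ] at h2
    have hn := card_sylow_mul T
    rw [← hK, ← hτ] at hker
    rw [card_nor_eq, S.card_L, ← hK, hker, ← hg] at hn
    have hI : cnt G 2 * (p * τ) = g := by
      rw [h2, hτ1, hc2, ← hn]; ring
    subst hc2
    have hd' : d = 1 := by omega
    rw [hP] at hE1 hI ⊢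
    simp only [Nat.add_sub_cancel, show (2 : ℕ) - 1 = 1 from rfl, one_mul] at hE1
    have hB : cnt G p ≤ cnt G (2 * p) := by
      rw [← hcp]; exact Nat.le_mul_of_pos_right _ hf1
    rw [hP] at hB
    set A := cnt G 2
    set B := cnt G (2 * (P + 1))
    have h3 : 2 * ((P + 1) * τ) * B ≤ g * (P * τ) := by
      rw [hE, hP] at hE1
      have e : (A + B) * ((P + 1) * τ * 2) = 2 * (A * ((P + 1) * τ)) + 2 * ((P + 1) * τ) * B := by ring
      rw [e, hI, mul_add] at hE1
      omega
    have h4 : 2 * (P + 1) * B ≤ g * P := Nat.le_of_mul_le_mul_right (by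
      calc 2 * (P + 1) * B * τ = 2 * ((P + 1) * τ) * B := by ring
        _ ≤ g * (P * τ) := h3
        _ = g * P * τ := by ring) (show 0 < τ by omega)
    have h5 : 2 * (P + 1) * A ≤ g := by
      have hA : A * ((P + 1) * 2) ≤ g := le_trans (Nat.mul_le_mul_left _ (Nat.mul_le_mul_left _ (by omega))) hI.le
      linarith
    rw [show 2 * (P + 1) - 1 = 2 * P + 1 by omega]
    calc 2 * (P + 1) * (A + B + cnt G (P + 1))
          = 2 * (P + 1) * A + 2 * (P + 1) * B + 2 * (P + 1) * cnt G (P + 1) := by ring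
      _ ≤ g + g * P + g * P :=
          Nat.add_le_add (Nat.add_le_add h5 h4) ((Nat.mul_le_mul_left _ hB).trans h4)
      _ = g * (2 * P + 1) := by ring

/-- No simple group has element orders `1, 2, p, q, 2p` with one automorphism orbit for each. -/
theorem Hyp.absurd (h : Hyp G p q) : False := by
  haveI := Fact.mk Nat.prime_two
  obtain ⟨T⟩ := (inferInstance : Nonempty (Sylow 2 G))
  by_cases hs : SemiReg T
  · exact h.false_of_semi T hs
  · obtain ⟨c, S⟩ := h.exists_nonSemi T hs
    exact h.false_of_nonSemi T S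

end Cfsg.Agent.Transfer.FiveOrbits
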