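import Mathlib
import Cfsg.Agent.Lib.Transfer.FiveOrbits.Exclude
import Cfsg.Agent.Lib.Transfer.CIT.Main
import Cfsg.Agent.Lib.Spor.M21Psl
import Cfsg.Agent.S2202
import Cfsg.Agent.S2475
import Cfsg.Agent.S0252
import Cfsg.Agent.S0253
import Cfsg.Agent.S0254

/-!
Simple groups with at most five automorphism orbits on elements.
-/

set_option autoImplicit false
set_option linter.style.haveILetI false

universe u

namespace Cfsg.Agent.Transfer.FiveOrbits

open Subgroup CIT

variable {G : Type u} [Group G] [Finite G]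

/-- The set of listed groups. -/
def Listed (G : Type u) [Group G] : Prop :=
  Nonempty (G ≃* ↥(alternatingGroup (Fin 5))) ∨ Nonempty (G ≃* ↥(alternatingGroup (Fin 6))) ∨
    (∃ (F : Type) (_ : Field F) (_ : Fintype F), (Fintype.card F = 7 ∨ Fintype.card F = 8) ∧
      Nonempty (G ≃* Matrix.ProjectiveSpecialLinearGroup (Fin 2) F))

/-- The order of the elements of an orbit. -/
noncomputable def orbOrder : MulAction.orbitRel.Quotient (MulAut G) G → ℕ :=
  Quotient.lift (fun x : G => orderOf x) (by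
    rintro a b ⟨α, rfl⟩
    exact (MulEquiv.orderOf_eq α b))

theorem orbOrder_mk (x : G) : orbOrder (Quotient.mk (MulAction.orbitRel (MulAut G) G) x) = orderOf x := rfl

/-- At most five element orders. -/
theorem card_orders_le (h5 : Nat.card (MulAction.orbitRel.Quotient (MulAut G) G) ≤ 5) (S : Finset ℕ)
    (hS : ∀ n ∈ S, ∃ x : G, orderOf x = n) : S.card ≤ 5 := by
  classical
  choose x hx using hS
  refine le_trans ?_ h5
  rw [← Nat.card_eq_finsetCard S]
  refine Nat.card_le_card_of_injective (fun n : S => Quotient.mk (MulAction.orbitRel (MulAut G) G) (x n n.2))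
    fun a b e => Subtype.ext ?_
  have := congrArg orbOrder e
  rwa [orbOrder_mk, orbOrder_mk, hx, hx] at this

/-- If five orders occur, there are no others and each is a single orbit. -/
theorem orbit_of_five (h5 : Nat.card (MulAction.orbitRel.Quotient (MulAut G) G) ≤ 5) (S : Finset ℕ)
    (hS : ∀ n ∈ S, ∃ x : G, orderOf x = n) (hc : S.card = 5) :
    (∀ g : G, orderOf g ∈ S) ∧ ∀ x y : G, orderOf x = orderOf y → ∃ α : MulAut G, α x = y := by
  classical
  have hmem : ∀ g : G, orderOf g ∈ S := by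
    intro g
    by_contra hg
    have := card_orders_le h5 (insert (orderOf g) S) fun n hn => by
      rcases Finset.mem_insert.1 hn with rfl | hn
      · exact ⟨g, rfl⟩
      · exact hS n hn
    rw [Finset.card_insert_of_notMem hg, hc] at this
    omega
  refine ⟨hmem, fun x y hxy => ?_⟩
  let f : MulAction.orbitRel.Quotient (MulAut G) G → S := fun o => ⟨orbOrder o, by
    induction o using Quotient.ind with
    | _ g => exact hmem g⟩
  have hf : Function.Surjective f := fun n => by
    obtain ⟨g, hg⟩ := hS n n.2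
    exact ⟨Quotient.mk _ g, Subtype.ext hg⟩
  have hbij := hf.bijective_of_nat_card_le (by rw [Nat.card_eq_finsetCard, hc]; exact h5)
  have := hbij.1 (a₁ := Quotient.mk (MulAction.orbitRel (MulAut G) G) y)
    (a₂ := Quotient.mk (MulAction.orbitRel (MulAut G) G) x) (Subtype.ext hxy.symm)
  obtain ⟨α, hα⟩ := Quotient.exact this
  exact ⟨α, hα⟩

theorem minFac_spec {n : ℕ} (hn : 1 < n) (ho : Odd n) :
    n.minFac.Prime ∧ n.minFac ≠ 2 ∧ n.minFac ∣ n ∧ n.minFac ≤ n ∧ 3 ≤ n.minFac := by
  have hp := Nat.minFac_prime (n := n) (by omega)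
  have h2 : n.minFac ≠ 2 := fun e => by
    obtain ⟨j, hj⟩ := ho
    have := n.minFac_dvd
    rw [e] at this
    omega
  exact ⟨hp, h2, n.minFac_dvd, Nat.minFac_le (by omega), by have := hp.two_le; omega⟩

theorem exists_orderOf_prime {s : ℕ} (hs : s.Prime) (hd : s ∣ Nat.card G) : ∃ x : G, orderOf x = s :=
  haveI := Fact.mk hs
  exists_prime_orderOf_dvd_card' s hd

theorem exists_order_one : ∃ x : G, orderOf x = 1 := ⟨1, orderOf_one⟩

/-- The groups `PSL(2, q)`. -/
theorem psl_case [IsSimpleGroup G] (hG : ¬ IsMulCommutative G)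
    (h5 : Nat.card (MulAction.orbitRel.Quotient (MulAut G) G) ≤ 5) (hc : IsCIT G)
    {F : Type} [Field F] [Fintype F] (e : G ≃* Matrix.ProjectiveSpecialLinearGroup (Fin 2) F) : Listed G := by
  classical
  have h4 := four_le_card_field hG e
  have hhalf := fun m hm => exists_orderOf_half (m := m) e h4 hm
  rcases hc.field_card hG e with h9 | ⟨n, hn⟩ | ⟨hpr, k, hk⟩
  · obtain ⟨f⟩ := S0254.result (F := F) h9
    exact Or.inr (Or.inl ⟨e.trans f⟩)
  · have hn2 : 2 ≤ n := by
      by_contra hlt
      rcases (show n = 0 ∨ n = 1 by omega) with e0 | e0 <;> rw [e0] at hn <;> omega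
    rcases (show n = 2 ∨ n = 3 ∨ 4 ≤ n by omega) with e0 | e0 | hn4
    · obtain ⟨f⟩ := S0252.result (F := F) (by rw [hn, e0]; norm_num)
      exact Or.inl ⟨e.trans f⟩
    · exact Or.inr (Or.inr ⟨F, _, _, Or.inr (by rw [hn, e0]; norm_num), ⟨e⟩⟩)
    exfalso
    rw [hn] at hhalf
    have heven : 2 ∣ 2 ^ n := dvd_pow_self 2 (by omega)
    have h16 : 16 ≤ 2 ^ n := le_trans (by norm_num) (Nat.pow_le_pow_right (n := 2) two_pos hn4)
    have hg : Nat.gcd 2 (2 ^ n - 1) = 1 := (Nat.Prime.coprime_iff_not_dvd Nat.prime_two).2 (by omega)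
    simp only [hg, Nat.div_one] at hhalf
    have h3 : 3 ∣ 2 ^ n - 1 ∨ 3 ∣ 2 ^ n + 1 := by
      have : ¬ 3 ∣ 2 ^ n := fun hd => by
        have := Nat.prime_three.dvd_of_dvd_pow hd
        omega
      rcases (show 2 ^ n % 3 = 1 ∨ 2 ^ n % 3 = 2 from by rw [Nat.dvd_iff_mod_eq_zero] at this; omega) with hm | hm
      · exact Or.inl (Nat.dvd_of_mod_eq_zero (by omega))
      · exact Or.inr (Nat.dvd_of_mod_eq_zero (by omega))
    have h2o : ∃ x : G, orderOf x = 2 := by
      refine exists_orderOf_prime Nat.prime_two ?_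
      have hc := Dickson.card_psl (F := F)
      have hdel : Dickson.del F = Nat.gcd 2 (Fintype.card F - 1) := rfl
      rw [hdel, hn, hg, mul_one, ← Nat.card_congr e.toEquiv] at hc
      rw [hc]; exact heven.mul_right _
    have hsix : ∀ a : ℕ, (a = 2 ^ n - 1 ∨ a = 2 ^ n + 1) → 3 ∣ a → False := by
      intro a ha h3a
      obtain ⟨j, hj⟩ := h3a
      have := card_orders_le h5 ({1, 2, 3, j, 2 ^ n - 1, 2 ^ n + 1} : Finset ℕ) (by
        intro m hm
        simp only [Finset.mem_insert, Finset.mem_singleton] at hm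
        rcases hm with rfl | rfl | rfl | rfl | rfl | rfl
        · exact exists_order_one
        · exact h2o
        · exact hhalf 3 h3
        · refine hhalf _ ?_
          rcases ha with rfl | rfl
          · exact Or.inl (Dvd.intro_left 3 hj.symm)
          · exact Or.inr (Dvd.intro_left 3 hj.symm)
        · exact hhalf _ (Or.inl dvd_rfl)
        · exact hhalf _ (Or.inr dvd_rfl))
      rw [Finset.card_insert_of_notMem, Finset.card_insert_of_notMem, Finset.card_insert_of_notMem,
        Finset.card_insert_of_notMem, Finset.card_insert_of_notMem, Finset.card_singleton] at this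
      · omega
      all_goals simp only [Finset.mem_insert, Finset.mem_singleton]
      all_goals omega
    rcases h3 with hd | hd
    · exact hsix _ (Or.inl rfl) hd
    · exact hsix _ (Or.inr rfl) hd
  · -- prime fields
    have h5p : Fintype.card F = 5 ∨ Fintype.card F = 7 ∨ 17 ≤ Fintype.card F := by
      rcases Nat.lt_or_ge k 4 with hlt | hge
      · have hp' := hpr
        rcases hk with hk | hk <;> interval_cases k <;> norm_num at hk <;>
          (first | omega | (exfalso; rw [show Fintype.card F = 9 by omega] at hp'; norm_num at hp'))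
      · have : 16 ≤ 2 ^ k := le_trans (by norm_num) (Nat.pow_le_pow_right (n := 2) two_pos hge)
        rcases hk with hk | hk
        · exact Or.inr (Or.inr (by omega))
        · refine Or.inr (Or.inr ?_)
          rcases Nat.lt_or_ge k 5 with hk5 | hk5
          · rw [show k = 4 by omega] at hk
            exfalso
            rw [show Fintype.card F = 15 by norm_num at hk; omega] at hpr
            norm_num at hpr
          · have : 32 ≤ 2 ^ k := le_trans (by norm_num) (Nat.pow_le_pow_right (n := 2) two_pos hk5)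
            omega
    rcases h5p with hp | hp | h17
    · obtain ⟨f⟩ := S0253.result (F := F) hp
      exact Or.inl ⟨e.trans f⟩
    · exact Or.inr (Or.inr ⟨F, _, _, Or.inl hp, ⟨e⟩⟩)
    exfalso
    set q := Fintype.card F with hq
    have hodd : Odd q := hpr.odd_of_ne_two (by omega)
    obtain ⟨j, hj⟩ := hodd
    have hg : Nat.gcd 2 (q - 1) = 2 := Nat.gcd_eq_left (by omega)
    simp only [hg] at hhalf
    have hk2 : 5 ≤ k + 1 := by
      by_contra hlt
      have : 2 ^ k ≤ 2 ^ 3 := Nat.pow_le_pow_right two_pos (by omega)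
      omega
    obtain ⟨l, rfl⟩ : ∃ l, k = l + 4 := ⟨k - 4, by omega⟩
    have hl : 2 ^ (l + 4) = 2 * (8 * 2 ^ l) := by rw [pow_add]; ring
    have hpl := Nat.two_pow_pos l
    have hqd : ∃ x : G, orderOf x = q := by
      refine exists_orderOf_prime hpr ?_
      have hc := Dickson.card_psl (F := F)
      have hdel : Dickson.del F = Nat.gcd 2 (Fintype.card F - 1) := rfl
      rw [hdel, ← hq, hg, ← Nat.card_congr e.toEquiv] at hc
      have : q ∣ Nat.card G * 2 := hc ▸ dvd_mul_right _ _
      exact ((Nat.coprime_primes hpr Nat.prime_two).2 (by omega)).dvd_of_dvd_mul_right this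
    -- the half which is a power of two, and the odd one
    obtain ⟨a, b, hab, hale, hbo, hb1, hbq⟩ : ∃ a b : ℕ,
        ((a = (q - 1) / 2 ∧ b = (q + 1) / 2) ∨ (a = (q + 1) / 2 ∧ b = (q - 1) / 2)) ∧
          8 ∣ a ∧ Odd b ∧ 1 < b ∧ b < q := by
      rcases hk with hk | hk
      · exact ⟨_, _, Or.inl ⟨rfl, rfl⟩, ⟨2 ^ l, by omega⟩, ⟨4 * 2 ^ l, by omega⟩, by omega, by omega⟩
      · exact ⟨_, _, Or.inr ⟨rfl, rfl⟩, ⟨2 ^ l, by omega⟩, ⟨4 * 2 ^ l - 1, by omega⟩, by omega, by omega⟩
    obtain ⟨hr, hr2, hrd, hrle, hr3⟩ := minFac_spec hb1 hbo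
    have hA : ∀ m, m ∣ a → ∃ x : G, orderOf x = m := fun m hm => by
      rcases hab with ⟨rfl, rfl⟩ | ⟨rfl, rfl⟩
      · exact hhalf m (Or.inl hm)
      · exact hhalf m (Or.inr hm)
    have hB : ∃ x : G, orderOf x = b.minFac := by
      rcases hab with ⟨rfl, rfl⟩ | ⟨rfl, rfl⟩
      · exact hhalf _ (Or.inr hrd)
      · exact hhalf _ (Or.inl hrd)
    have := card_orders_le h5 ({1, 2, 4, 8, q, b.minFac} : Finset ℕ) (by
      intro m hm
      simp only [Finset.mem_insert, Finset.mem_singleton] at hm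
      rcases hm with rfl | rfl | rfl | rfl | rfl | rfl
      · exact exists_order_one
      · exact hA 2 ((show 2 ∣ 8 by norm_num).trans hale)
      · exact hA 4 ((show 4 ∣ 8 by norm_num).trans hale)
      · exact hA 8 hale
      · exact hqd
      · exact hB)
    have hr4 : b.minFac ≠ 4 := fun e => by rw [e] at hr; norm_num at hr
    have hr8 : b.minFac ≠ 8 := fun e => by rw [e] at hr; norm_num at hr
    rw [Finset.card_insert_of_notMem, Finset.card_insert_of_notMem, Finset.card_insert_of_notMem,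
      Finset.card_insert_of_notMem, Finset.card_insert_of_notMem, Finset.card_singleton] at this
    · omega
    all_goals simp only [Finset.mem_insert, Finset.mem_singleton]
    all_goals omega

theorem not_solvable [IsSimpleGroup G] (hG : ¬ IsMulCommutative G) : ¬ Group.IsSolvable G :=
  fun hs => hG ⟨⟨IsSimpleGroup.comm_iff_isSolvable.2 hs⟩⟩

/-- The order is divisible by two odd primes. -/
theorem exists_two_odd_primes [IsSimpleGroup G] (hG : ¬ IsMulCommutative G) (r : ℕ) (hr : r.Prime) :
    ∃ s : ℕ, s.Prime ∧ s ≠ 2 ∧ s ≠ r ∧ s ∣ Nat.card G := by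
  by_contra hall
  push Not at hall
  refine not_solvable hG (isSolvable_of_two_primes Nat.prime_two hr fun l hl hd => ?_)
  by_contra hne
  push Not at hne
  exact hall l hl hne.1 hne.2 hd

/-- A CIT group without elements of order four is `PSL(2, 2 ^ n)`. -/
theorem exists_four_or_psl [IsSimpleGroup G] (hG : ¬ IsMulCommutative G) (hc : IsCIT G)
    (heven : 2 ∣ Nat.card G) :
    (∃ x : G, orderOf x = 4) ∨
      ∃ (F : Type) (_ : Field F) (_ : Fintype F), Nonempty (G ≃* Matrix.ProjectiveSpecialLinearGroup (Fin 2) F) := by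
  classical
  haveI := Fact.mk Nat.prime_two
  by_cases h4 : ∃ x : G, orderOf x = 4
  · exact Or.inl h4
  right
  have hexp : ∀ (X : Subgroup G), IsPGroup 2 X → ∀ a ∈ X, a * a = 1 := by
    intro X hX a ha
    obtain ⟨k, hk⟩ := IsPGroup.iff_orderOf.1 hX ⟨a, ha⟩
    rw [orderOf_mk] at hk
    rcases k with _ | _ | k
    · obtain rfl : a = 1 := orderOf_eq_one_iff.1 (hk.trans (pow_zero 2))
      rw [mul_one]
    · rw [← pow_two]; exact orderOf_dvd_iff_pow_eq_one.1 (by rw [hk]; simp)
    · refine absurd ⟨a ^ 2 ^ k, ?_⟩ h4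
      rw [orderOf_pow_of_dvd (pow_ne_zero k two_ne_zero) (hk ▸ pow_dvd_pow 2 (by omega)), hk,
        Nat.pow_div (by omega) two_pos, show k + 1 + 1 - k = 2 by omega]
      norm_num
  have hnc : ¬ IsCyclic G := fun hcy => hG ⟨⟨fun a b => by
    obtain ⟨g, hg⟩ := hcy.exists_generator
    obtain ⟨i, rfl⟩ := hg a
    obtain ⟨j, rfl⟩ := hg b
    exact (Commute.refl g).zpow_zpow i j⟩⟩
  rcases S2202.result (even_iff_two_dvd.2 heven) (fun t ht => ⟨⟨fun a b => by
      have h2 : ∀ y : centralizer ({t} : Set G), y * y = 1 := fun y =>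
        Subtype.ext (hexp _ (hc t ht) y y.2)
      have e : a * b = (a * b)⁻¹ := eq_inv_of_mul_eq_one_left (h2 _)
      rwa [mul_inv_rev, inv_eq_of_mul_eq_one_right (h2 a), inv_eq_of_mul_eq_one_right (h2 b)] at e⟩⟩)
    with hcyc | hnorm | ⟨F, i1, i2, A, i3, i4, hchar, -, ⟨e⟩⟩
  · exfalso
    obtain ⟨E, hE⟩ := S0204.result hnc
    obtain ⟨S, hS⟩ := (IsPGroup.of_card (show Nat.card E = 2 ^ 2 from hE.card_four)).exists_le_sylow
    haveI := hcyc S
    haveI : IsCyclic E := isCyclic_of_injective (Subgroup.inclusion hS) (Subgroup.inclusion_injective hS)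
    exact hE.not_isCyclic ‹_›
  · exfalso
    obtain ⟨S⟩ := (inferInstance : Nonempty (Sylow 2 G))
    rcases IsSimpleGroup.eq_bot_or_eq_top_of_normal (S : Subgroup G) (hnorm S) with e | e
    · exact S.not_dvd_index (by rw [e, index_bot]; exact heven)
    · refine not_solvable hG ?_
      have hG2 : IsPGroup 2 G := fun g => by
        obtain ⟨k, hk⟩ := S.isPGroup' ⟨g, e ▸ mem_top g⟩
        exact ⟨k, congrArg Subtype.val hk⟩
      haveI := hG2.isNilpotent
      infer_instance
  · -- the abelian factor is trivial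
    set π : G →* A := (MonoidHom.snd _ _).comp e.toMonoidHom with hπ
    have hπs : Function.Surjective π := fun a => ⟨e.symm (1, a), by simp [hπ]⟩
    have hA : Subsingleton A := by
      rcases IsSimpleGroup.eq_bot_or_eq_top_of_normal π.ker inferInstance with e1 | e1
      · exact absurd ⟨⟨fun a b => (MonoidHom.ker_eq_bot_iff π).1 e1 (by rw [map_mul, map_mul, mul_comm])⟩⟩ hG
      · refine ⟨fun a b => ?_⟩
        obtain ⟨x, rfl⟩ := hπs a
        obtain ⟨y, rfl⟩ := hπs b
        rw [MonoidHom.mem_ker.1 (e1 ▸ mem_top x), MonoidHom.mem_ker.1 (e1 ▸ mem_top y)]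
    let e' : G ≃* Matrix.SpecialLinearGroup (Fin 2) F := e.trans
      { toFun := fun x => x.1
        invFun := fun x => (x, 1)
        left_inv := fun x => Prod.ext rfl (Subsingleton.elim _ _)
        right_inv := fun _ => rfl
        map_mul' := fun _ _ => rfl }
    have hcen : center (Matrix.SpecialLinearGroup (Fin 2) F) = ⊥ := by
      rw [eq_bot_iff]
      intro x hx
      have hx' : e'.symm x ∈ center G := mem_center_iff.2 fun g => by
        apply e'.injective
        rw [map_mul, map_mul, e'.apply_symm_apply]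
        exact mem_center_iff.1 hx (e' g)
      rcases IsSimpleGroup.eq_bot_or_eq_top_of_normal (center G) inferInstance with e1 | e1
      · rw [e1, mem_bot] at hx'
        rw [mem_bot, ← e'.apply_symm_apply x, hx', map_one]
      · exact absurd ⟨⟨fun a b => mem_center_iff.1 (e1 ▸ mem_top b) a⟩⟩ hG
    exact ⟨F, i1, i2, ⟨e'.trans ((QuotientGroup.quotientMulEquivOfEq hcen).trans QuotientGroup.quotientBot).symm⟩⟩

/-- Three odd primes and an element of order four are too many. -/
theorem false_of_three (h5 : Nat.card (MulAction.orbitRel.Quotient (MulAut G) G) ≤ 5)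
    (h4 : ∃ x : G, orderOf x = 4) {a b c : ℕ} (ha : a.Prime) (hb : b.Prime) (hc : c.Prime)
    (ha2 : a ≠ 2) (hb2 : b ≠ 2) (hc2 : c ≠ 2) (hab : a ≠ b) (hac : a ≠ c) (hbc : b ≠ c)
    (hd : a * b * c ∣ Nat.card G) : False := by
  classical
  have h2 : ∃ x : G, orderOf x = 2 := by
    obtain ⟨x, hx⟩ := h4
    exact ⟨x ^ 2, by rw [orderOf_pow_of_dvd two_ne_zero (hx ▸ by norm_num), hx]⟩
  have h := card_orders_le h5 ({1, 2, 4, a, b, c} : Finset ℕ) (by
    intro m hm
    simp only [Finset.mem_insert, Finset.mem_singleton] at hm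
    rcases hm with rfl | rfl | rfl | rfl | rfl | rfl
    · exact exists_order_one
    · exact h2
    · exact h4
    · exact exists_orderOf_prime ha ((dvd_mul_right _ _).trans ((dvd_mul_right _ _).trans hd))
    · exact exists_orderOf_prime hb ((dvd_mul_left _ _).trans ((dvd_mul_right _ _).trans hd))
    · exact exists_orderOf_prime hc ((dvd_mul_left _ _).trans hd))
  have n4 : ∀ {s : ℕ}, s.Prime → s ≠ 4 := fun hs e => by rw [e] at hs; norm_num at hs
  have n1 := ha.one_lt; have n2 := hb.one_lt; have n3 := hc.one_lt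
  have := n4 ha; have := n4 hb; have := n4 hc
  rw [Finset.card_insert_of_notMem, Finset.card_insert_of_notMem, Finset.card_insert_of_notMem,
    Finset.card_insert_of_notMem, Finset.card_insert_of_notMem, Finset.card_singleton] at h
  · omega
  all_goals simp only [Finset.mem_insert, Finset.mem_singleton]
  all_goals omega

theorem suzuki_primes {g : ℕ} {m : ℕ} (hm : 1 ≤ m)
    (hg : g = (2 ^ (2 * m + 1)) ^ 2 * ((2 ^ (2 * m + 1)) ^ 2 + 1) * (2 ^ (2 * m + 1) - 1)) :
    ∃ a b c : ℕ, a.Prime ∧ b.Prime ∧ c.Prime ∧ a ≠ 2 ∧ b ≠ 2 ∧ c ≠ 2 ∧ a ≠ b ∧ a ≠ c ∧ b ≠ c ∧ a * b * c ∣ g := by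
  obtain ⟨l, rfl⟩ : ∃ l, m = l + 1 := ⟨m - 1, by omega⟩
  obtain ⟨i, hi, hi1⟩ : ∃ i, i = 2 ^ l ∧ 1 ≤ i := ⟨_, rfl, Nat.one_le_two_pow⟩
  have hq : 2 ^ (2 * (l + 1) + 1) = 8 * i * i := by rw [hi]; ring
  rw [hq] at hg
  set A := 8 * i * i - 1 with hA
  set B := 8 * i * i - 4 * i + 1 with hB
  set C := 8 * i * i + 4 * i + 1 with hC
  have hle : 4 * i ≤ 8 * i * i := by nlinarith
  have hBC : B * C = (8 * i * i) ^ 2 + 1 := by
    zify [hle] at *
    rw [hB, hC]; ring
  have hA1 : 1 < A := by
    have : 8 ≤ 8 * i * i := by nlinarith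
    omega
  have hB1 : 1 < B := by
    have : 8 * i ≤ 8 * i * i := by nlinarith
    omega
  have hC1 : 1 < C := by omega
  have hAo : Odd A := ⟨4 * i * i - 1, by
    have : 8 * i * i = 2 * (4 * i * i) := by ring
    omega⟩
  have hBo : Odd B := ⟨4 * i * i - 2 * i, by
    have : 8 * i * i = 2 * (4 * i * i) := by ring
    omega⟩
  have hCo : Odd C := ⟨4 * i * i + 2 * i, by ring⟩
  obtain ⟨ha, ha2, had, -, -⟩ := minFac_spec hA1 hAo
  obtain ⟨hb, hb2, hbd, -, -⟩ := minFac_spec hB1 hBo
  obtain ⟨hc, hc2, hcd, -, -⟩ := minFac_spec hC1 hCo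
  have hne : ∀ {s : ℕ}, s.Prime → s ≠ 2 → s ∣ A → s ∣ B * C → False := by
    intro s hs hs2 h1 h2
    rw [hBC] at h2
    have h3 : s ∣ (8 * i * i) ^ 2 - 1 := by
      have e : (8 * i * i) ^ 2 - 1 = (8 * i * i + 1) * (8 * i * i - 1) := by
        rw [← Nat.sq_sub_sq, one_pow]
      rw [e]; exact h1.mul_left _
    have h4 : 1 ≤ (8 * i * i) ^ 2 := Nat.one_le_pow _ _ (by nlinarith)
    have h5 := Nat.dvd_sub h2 h3
    rw [show (8 * i * i) ^ 2 + 1 - ((8 * i * i) ^ 2 - 1) = 2 by omega] at h5
    exact hs2 ((Nat.prime_dvd_prime_iff_eq hs Nat.prime_two).1 h5)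
  refine ⟨A.minFac, B.minFac, C.minFac, ha, hb, hc, ha2, hb2, hc2, ?_, ?_, ?_, ?_⟩
  · intro e; exact hne ha ha2 had ((e ▸ hbd).mul_right _)
  · intro e; exact hne ha ha2 had ((e ▸ hcd).mul_left _)
  · intro e
    have h1 : B.minFac ∣ C := e ▸ hcd
    have h2 := Nat.dvd_sub h1 hbd
    rw [show C - B = 2 * (4 * i) by omega] at h2
    have h3 : B.minFac ∣ 4 * i := ((Nat.coprime_primes hb Nat.prime_two).2 hb2).dvd_of_dvd_mul_left h2
    rw [show 4 * i = 2 ^ (l + 2) by rw [hi]; ring] at h3
    exact hb2 ((Nat.prime_dvd_prime_iff_eq hb Nat.prime_two).1 (hb.dvd_of_dvd_pow h3))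
  · rw [hg, ← hBC]
    exact Dvd.dvd.trans (mul_dvd_mul (mul_dvd_mul had hbd) hcd) ⟨(8 * i * i) ^ 2, by ring⟩

/-- The classification. -/
theorem classification [IsSimpleGroup G] (hG : ¬ IsMulCommutative G)
    (h5 : Nat.card (MulAction.orbitRel.Quotient (MulAut G) G) ≤ 5) : Listed G := by
  classical
  by_cases hc : IsCIT G
  · rcases hc.classification hG with ⟨F, i1, i2, -, ⟨e⟩⟩ | hL | hS
    · exact psl_case hG h5 hc e
    · obtain ⟨F, i1, i2, hF, ⟨e⟩⟩ := hL
      have hcard : Nat.card G = 20160 := by rw [Nat.card_congr e.toEquiv, Spor.M21.natCard_psl hF]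
      rcases exists_four_or_psl hG hc (hcard ▸ by norm_num) with h4 | ⟨F', j1, j2, ⟨e'⟩⟩
      · exact (false_of_three h5 h4 Nat.prime_three Nat.prime_five (by norm_num : Nat.Prime 7) (by norm_num)
          (by norm_num) (by norm_num) (by norm_num) (by norm_num) (by norm_num) (hcard ▸ by norm_num)).elim
      · exact psl_case hG h5 hc e'
    · obtain ⟨-, m, hm, hcard⟩ := hS
      have h2 : 2 ∣ Nat.card G := by
        rw [hcard]
        exact ((dvd_pow_self 2 (by omega)).trans (dvd_pow_self _ two_ne_zero)).mul_right _ |>.mul_right _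
      rcases exists_four_or_psl hG hc h2 with h4 | ⟨F', j1, j2, ⟨e'⟩⟩
      · obtain ⟨a, b, c, ha, hb, hc', ha2, hb2, hc2, hab, hac, hbc, hd⟩ := suzuki_primes hm hcard
        exact (false_of_three h5 h4 ha hb hc' ha2 hb2 hc2 hab hac hbc hd).elim
      · exact psl_case hG h5 hc e'
  · exfalso
    simp only [IsCIT, not_forall] at hc
    obtain ⟨t, ht, hnp⟩ := hc
    -- an odd prime element commuting with `t`
    obtain ⟨r, hr, hr2, hrd⟩ : ∃ r : ℕ, r.Prime ∧ r ≠ 2 ∧ r ∣ Nat.card (centralizer ({t} : Set G)) := by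
      by_contra hall
      push Not at hall
      refine hnp (IsPGroup.of_card (n := (Nat.card (centralizer ({t} : Set G))).primeFactorsList.length) ?_)
      refine Nat.eq_prime_pow_of_unique_prime_dvd Nat.card_pos.ne' fun {l} hl hd => ?_
      by_contra hne
      exact hall l hl hne hd
    haveI := Fact.mk hr
    obtain ⟨y, hy⟩ := exists_prime_orderOf_dvd_card' r hrd
    have hyo : orderOf (y : G) = r := by rw [orderOf_coe]; exact hy
    have h2r : orderOf (t * (y : G)) = 2 * r := by
      rw [(cen_comm y.2).symm.orderOf_mul_eq_mul_orderOf_of_coprime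
        (by rw [ht, hyo]; exact (Nat.coprime_primes Nat.prime_two hr).2 hr2.symm), ht, hyo]
    obtain ⟨s, hs, hs2, hsr, hsd⟩ := exists_two_odd_primes hG r hr
    have hr1 := hr.one_lt; have hs1 := hs.one_lt
    obtain ⟨j, hj⟩ := hs.odd_of_ne_two hs2
    have hne : s ≠ 2 * r := by omega
    obtain ⟨hmem, horb⟩ := orbit_of_five h5 ({1, 2, r, s, 2 * r} : Finset ℕ) (by
      intro m hm
      simp only [Finset.mem_insert, Finset.mem_singleton] at hm
      rcases hm with rfl | rfl | rfl | rfl | rfl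
      · exact exists_order_one
      · exact ⟨t, ht⟩
      · exact ⟨y, hyo⟩
      · exact exists_orderOf_prime hs hsd
      · exact ⟨_, h2r⟩) (by
      rw [Finset.card_insert_of_notMem, Finset.card_insert_of_notMem, Finset.card_insert_of_notMem,
        Finset.card_insert_of_notMem, Finset.card_singleton]
      all_goals simp only [Finset.mem_insert, Finset.mem_singleton]
      all_goals omega)
    exact Hyp.absurd (p := r) (q := s)
      { simple := inferInstance
        nab := hG
        hp := hr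
        hp2 := hr2
        hq := hs
        hq2 := hs2
        hpq := hsr.symm
        ord := fun g => by simpa using hmem g
        ex2p := ⟨_, h2r⟩
        exq := exists_orderOf_prime hs hsd
        orb := horb }

end Cfsg.Agent.Transfer.FiveOrbits
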